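import Cfsg.Agent.CharactersDeep.SmallDegree
import Cfsg.Agent.Characters.RepBasic

/-!
# Linear groups of degree at most 16 and a prime `p ≥ 19`: elementary notions

`p`-elements, groups generated by them, the intersection of the Sylow `p`-subgroups, and images of
representations.
-/

set_option autoImplicit false
set_option linter.style.haveILetI false
set_option linter.unusedSectionVars false

namespace CfsgLib.DegreeSixteen

open CfsgLib.Characters

universe u

variable {p : ℕ} [Fact p.Prime] {G : Type u} [Group G]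

/-- An element whose order is a power of `p`. -/
def PElem (p : ℕ) {G : Type*} [Group G] (x : G) : Prop := ∃ k : ℕ, x ^ p ^ k = 1

theorem PElem.of_mem {Q : Subgroup G} (hQ : IsPGroup p Q) {x : G} (hx : x ∈ Q) : PElem p x := by
  obtain ⟨k, hk⟩ := hQ ⟨x, hx⟩
  exact ⟨k, congrArg Subtype.val hk⟩

theorem PElem.zpowers {x : G} (h : PElem p x) : IsPGroup p (Subgroup.zpowers x) := by
  obtain ⟨k, hk⟩ := h
  refine IsPGroup.of_card_dvd_pow (n := k) ?_
  rw [Nat.card_zpowers]
  exact orderOf_dvd_of_pow_eq_one hk

theorem PElem.of_pow_p {x : G} (h : x ^ p = 1) : PElem p x := ⟨1, by rwa [pow_one]⟩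

theorem PElem.map {H : Type*} [Group H] {x : G} (h : PElem p x) (f : G →* H) : PElem p (f x) := by
  obtain ⟨k, hk⟩ := h
  exact ⟨k, by rw [← map_pow, hk, map_one]⟩

theorem PElem.conj {x : G} (h : PElem p x) (g : G) : PElem p (g * x * g⁻¹) :=
  h.map (MulAut.conj g).toMonoidHom

theorem PElem.exists_sylow {x : G} (h : PElem p x) : ∃ P : Sylow p G, x ∈ (P : Subgroup G) := by
  obtain ⟨P, hP⟩ := h.zpowers.exists_le_sylow
  exact ⟨P, hP (Subgroup.mem_zpowers x)⟩

theorem isPGroup_of_forall {H : Subgroup G} (h : ∀ x ∈ H, PElem p x) : IsPGroup p H := fun x => by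
  obtain ⟨k, hk⟩ := h x x.2
  exact ⟨k, Subtype.ext (by simpa using hk)⟩

/-- The group is generated by its `p`-elements. -/
def Gen (p : ℕ) (G : Type*) [Group G] : Prop := Subgroup.closure {x : G | PElem p x} = ⊤

theorem Gen.eq_top (h : Gen p G) {M : Subgroup G} (hM : ∀ x : G, PElem p x → x ∈ M) : M = ⊤ :=
  top_le_iff.1 (h ▸ (Subgroup.closure_le M).2 hM)

theorem gen_closure {s : Set G} (hs : ∀ x ∈ s, PElem p x) : Gen p (Subgroup.closure s) := by
  refine top_le_iff.1 ((Subgroup.closure_closure_coe_preimage (k := s)).ge.trans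
    (Subgroup.closure_mono ?_))
  rintro ⟨x, hx⟩ (hxs : x ∈ s)
  obtain ⟨k, hk⟩ := hs x hxs
  exact ⟨k, Subtype.ext (by simpa using hk)⟩

theorem Gen.of_surjective {H : Type*} [Group H] (h : Gen p G) (f : G →* H)
    (hf : Function.Surjective f) : Gen p H := by
  refine top_le_iff.1 ?_
  rw [← Subgroup.map_top_of_surjective f hf, Subgroup.map_le_iff_le_comap]
  exact (h.eq_top fun x hx => Subgroup.mem_comap.2 (Subgroup.subset_closure (hx.map f))).ge

/-- Two subgroups in which any two `p`-elements commute. -/
theorem Gen.commute (h : Gen p G) (hc : ∀ x y : G, PElem p x → PElem p y → Commute x y) (a b : G) :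
    Commute a b := by
  have h1 : ∀ y : G, PElem p y → ∀ a : G, Commute a y := fun y hy a => by
    have := h.eq_top (M := Subgroup.centralizer ({y} : Set G)) fun x hx =>
      Subgroup.mem_centralizer_singleton_iff.2 (hc x y hx hy).eq
    exact Subgroup.mem_centralizer_singleton_iff.1 (this.ge (Subgroup.mem_top a))
  have := h.eq_top (M := Subgroup.centralizer ({a} : Set G)) fun y hy =>
    Subgroup.mem_centralizer_singleton_iff.2 (h1 y hy a).eq.symm
  exact (Subgroup.mem_centralizer_singleton_iff.1 (this.ge (Subgroup.mem_top b)) : b * a = a * b).symm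

/-- A group generated by commuting `p`-elements is a `p`-group. -/
theorem Gen.isPGroup (h : Gen p G) (hc : ∀ a b : G, Commute a b) : ∀ x : G, PElem p x := by
  let M : Subgroup G :=
    { carrier := {x | PElem p x}
      one_mem' := ⟨0, one_pow _⟩
      mul_mem' := by
        rintro a b ⟨i, hi⟩ ⟨j, hj⟩
        exact ⟨i + j, by rw [(hc a b).mul_pow, pow_add, pow_mul a, hi, one_pow, one_mul, mul_comm,
          pow_mul b, hj, one_pow]⟩
      inv_mem' := by
        rintro a ⟨i, hi⟩
        exact ⟨i, by rw [inv_pow, hi, inv_one]⟩ }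
  intro x
  have := h.eq_top (M := M) fun y hy => hy
  exact this.ge (Subgroup.mem_top x)

/-- The intersection of the Sylow `p`-subgroups. -/
def core (p : ℕ) (G : Type*) [Group G] : Subgroup G := ⨅ P : Sylow p G, (P : Subgroup G)

theorem mem_core {x : G} : x ∈ core p G ↔ ∀ P : Sylow p G, x ∈ (P : Subgroup G) :=
  Subgroup.mem_iInf

theorem core_le (P : Sylow p G) : core p G ≤ P := iInf_le _ P

theorem core_isPGroup : IsPGroup p (core p G) := by
  obtain ⟨P⟩ : Nonempty (Sylow p G) := inferInstance
  exact P.isPGroup'.to_le (core_le P)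

instance core_normal : (core p G).Normal := by
  refine ⟨fun x hx g => mem_core.2 fun P => ?_⟩
  have h := mem_core.1 hx (g⁻¹ • P)
  rw [Sylow.coe_subgroup_smul, Subgroup.mem_pointwise_smul_iff_inv_smul_mem] at h
  simpa [mul_assoc] using h

theorem le_core {R : Subgroup G} [R.Normal] (hR : IsPGroup p R) : R ≤ core p G :=
  le_iInf fun P => hR.le_sylow_of_normal P

/-- The Sylow subgroups exceed the core by a factor of at most `p`. -/
def Good (p : ℕ) (G : Type*) [Group G] : Prop :=
  ∀ P : Sylow p G, Nat.card (P : Subgroup G) ≤ p * Nat.card (core p G)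

variable [Finite G]

theorem good_of_exists {P : Sylow p G} {R : Subgroup G} [R.Normal] (hR : IsPGroup p R)
    (h : Nat.card (P : Subgroup G) ≤ p * Nat.card R) : Good p G := fun Q => by
  rw [Q.card_eq_multiplicity, ← P.card_eq_multiplicity]
  exact h.trans (Nat.mul_le_mul_left p (Subgroup.card_le_of_le (le_core hR)))

/-- It is enough to consider the subgroup generated by the `p`-elements. -/
theorem good_of_closure (h : Good p (Subgroup.closure {x : G | PElem p x})) : Good p G := by
  intro P
  set L := Subgroup.closure {x : G | PElem p x}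
  have hle : ∀ Q : Sylow p G, (Q : Subgroup G) ≤ L := fun Q x hx =>
    Subgroup.subset_closure (PElem.of_mem Q.isPGroup' hx)
  have h1 : Nat.card (core p L) ≤ Nat.card (core p G) := by
    refine Nat.card_le_card_of_injective (fun x => ⟨((x : L) : G), mem_core.2 fun Q => ?_⟩)
      fun x y e => Subtype.ext (Subtype.ext (congrArg Subtype.val e :))
    have h2 := mem_core.1 x.2 (Q.subtype (hle Q))
    rw [Sylow.coe_subtype] at h2
    exact Subgroup.mem_subgroupOf.1 h2
  have h2 := h (P.subtype (hle P))
  rw [Sylow.coe_subtype, Nat.card_congr (Subgroup.subgroupOfEquivOfLe (hle P)).toEquiv] at h2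
  exact h2.trans (Nat.mul_le_mul_left p h1)

section Rep

variable {n : ℕ}

/-- `p`-subgroups commute in degree less than `p`. -/
theorem commute_of_isPGroup (ρ : Representation ℂ G (Fin n → ℂ)) (hρ : Function.Injective ρ)
    (hn : n < p) {Q : Subgroup G} (hQ : IsPGroup p Q) {a b : G} (ha : a ∈ Q) (hb : b ∈ Q) :
    Commute a b := by
  haveI := Fintype.ofFinite G
  exact CharactersDeep.SmallDegree.comm_of_isPGroup hn ρ hρ hQ a ha b hb

theorem core_le_center (ρ : Representation ℂ G (Fin n → ℂ)) (hρ : Function.Injective ρ)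
    (hn : n < p) (hG : Gen p G) : core p G ≤ Subgroup.center G := by
  intro r hr
  refine Subgroup.mem_center_iff.2 fun g => ?_
  have := hG.eq_top (M := Subgroup.centralizer ({r} : Set G)) fun x hx => by
    obtain ⟨P, hP⟩ := hx.exists_sylow
    exact Subgroup.mem_centralizer_singleton_iff.2
      (commute_of_isPGroup ρ hρ hn P.isPGroup' hP (core_le P hr)).eq
  exact Subgroup.mem_centralizer_singleton_iff.1 (this.ge (Subgroup.mem_top g))

variable {V : Type*} [AddCommGroup V] [Module ℂ V]

/-- The group of operators of a representation. -/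
noncomputable abbrev Im (ρ : Representation ℂ G V) : Subgroup (Module.End ℂ V)ˣ :=
  (MonoidHom.toHomUnits ρ).range

/-- Its natural representation. -/
noncomputable def imRep (ρ : Representation ℂ G V) : Representation ℂ (Im ρ) V :=
  (Units.coeHom _).comp (Im ρ).subtype

theorem imRep_injective (ρ : Representation ℂ G V) : Function.Injective (imRep ρ) :=
  fun _ _ h => Subtype.ext (Units.ext h)

/-- The map onto the image. -/
noncomputable def toIm (ρ : Representation ℂ G V) : G →* Im ρ :=
  (MonoidHom.toHomUnits ρ).rangeRestrict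

theorem toIm_surjective (ρ : Representation ℂ G V) : Function.Surjective (toIm ρ) :=
  MonoidHom.rangeRestrict_surjective _

theorem imRep_toIm (ρ : Representation ℂ G V) (g : G) : imRep ρ (toIm ρ g) = ρ g := rfl

theorem toIm_eq_one_iff (ρ : Representation ℂ G V) (g : G) : toIm ρ g = 1 ↔ ρ g = 1 :=
  ⟨fun h => by rw [← imRep_toIm, h, map_one], fun h => imRep_injective ρ (by
    rw [imRep_toIm, h, map_one])⟩

/-- A subrepresentation on coordinates. -/
theorem exists_finRep [FiniteDimensional ℂ V] (ρ : Representation ℂ G V) (S : Subrepresentation ρ) :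
    ∃ (d : ℕ) (σ : Representation ℂ G (Fin d → ℂ)) (e : S.toSubmodule ≃ₗ[ℂ] (Fin d → ℂ)),
      d = Module.finrank ℂ S.toSubmodule ∧
      (∀ (g : G) (v : S.toSubmodule), (σ g (e v)) = e ⟨ρ g v, S.apply_mem_toSubmodule g v.2⟩) ∧
      (S.toRepresentation.IsIrreducible ↔ σ.IsIrreducible) := by
  refine ⟨_, transport S.toRepresentation (Module.finBasis ℂ S.toSubmodule).equivFun,
    (Module.finBasis ℂ S.toSubmodule).equivFun, rfl, fun g v => ?_,
    isIrreducible_congr (transportEquiv _ _)⟩
  rw [transport_apply, LinearEquiv.symm_apply_apply]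
  rfl

end Rep

end CfsgLib.DegreeSixteen
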