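import Cfsg.Agent.DegreeSixteen.Main

/-!
# The theorem on linear groups of degree 16

For the prime 31 the group generated by the `p`-elements covers the quotient by the centre.
-/

set_option autoImplicit false
set_option linter.style.haveILetI false
set_option linter.unusedSectionVars false

namespace CfsgLib.DegreeSixteen

open Cfsg CfsgLib.Characters CfsgLib.SmallDegreeP CfsgLib.DefectOne

variable {G : Type} [Group G]

/-- The operators `c • ρ g` with `c` a root of unity of exponent `|G|`. -/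
noncomputable abbrev bigGroup (ρ : Representation ℂ G (Fin 16 → ℂ)) :
    Subgroup (Module.End ℂ (Fin 16 → ℂ))ˣ :=
  (MonoidHom.toHomUnits (pairHom ρ)).range

section

variable [Finite G] {p : ℕ} [hp : Fact p.Prime] {ρ : Representation ℂ G (Fin 16 → ℂ)}

theorem sc_le_bigGroup (hdp : 16 < p) : Sc p (pRes ρ p) ≤ bigGroup ρ := by
  haveI : NeZero (Nat.card G) := ⟨Nat.card_pos.ne'⟩
  refine (Subgroup.closure_le _).2 ?_
  rintro U ⟨x, c, -, ⟨k, hk⟩, hU, hdet⟩
  have hc : c ^ Nat.card G = 1 := by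
    obtain ⟨j, hj⟩ := (Subgroup.closure {x : G | PElem p x}).card_subgroup_dvd_card
    rw [hj, pow_mul, root_pow_card (σ := pRes ρ p) (by norm_num) hdp hk (hU ▸ hdet), one_pow]
  refine ⟨((x : G), rootsOfUnity.mkOfPowEq c hc), Units.ext ?_⟩
  rw [hU]
  show ((rootsOfUnity.mkOfPowEq c hc : ℂˣ) : ℂ) • ρ (x : G) = c • ρ (x : G)
  rw [rootsOfUnity.val_mkOfPowEq_coe]

end

local instance fact31M : Fact (Nat.Prime 31) := ⟨by norm_num⟩

variable [Finite G] {ρ : Representation ℂ G (Fin 16 → ℂ)} [ρ.IsIrreducible]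

/-- The subgroup generated by the 31-elements covers the quotient by the centre. -/
theorem covers_center [(pRes ρ 31).IsIrreducible] [Fintype (Sc 31 (pRes ρ 31))]
    [(scRep 31 (pRes ρ 31)).IsIrreducible] (hρ : Function.Injective ρ)
    {L : Local 31 (Sc 31 (pRes ρ 31))} {u : Sc 31 (pRes ρ 31)}
    (H : Lin16 (scRep 31 (pRes ρ 31)) L u) (g : G) :
    ∃ h : Subgroup.closure {x : G | PElem 31 x}, (h : G) * g ∈ Subgroup.center G := by
  classical
  set π := scRep 31 (pRes ρ 31) with hπ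
  have hinv : ∀ b : Sc 31 (pRes ρ 31), π b⁻¹ * π b = 1 ∧ π b * π b⁻¹ = 1 := fun b => by
    rw [← map_mul, ← map_mul, inv_mul_cancel, mul_inv_cancel, map_one]
    exact ⟨rfl, rfl⟩
  -- adjust to centralize `u`
  obtain ⟨h₁, hA⟩ : ∃ h₁ : Subgroup.closure {x : G | PElem 31 x},
      ρ ((h₁ : G) * g) * π u = π u * ρ ((h₁ : G) * g) := by
    obtain ⟨a, ha⟩ := exists_conj (p := 31) (ρ := ρ) (by norm_num) g u
    rw [← hπ] at ha
    have hap : a ^ 31 = 1 := H.inj (by
      have h1 : ∀ n : ℕ, π a ^ n * ρ g = ρ g * π u ^ n := by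
        intro n
        induction n with
        | zero => simp
        | succ n ih => rw [pow_succ, pow_succ, mul_assoc, ha, ← mul_assoc, ih, mul_assoc]
      have h2 := h1 31
      rw [← map_pow π u, H.pow, map_one π, mul_one] at h2
      rw [map_pow, map_one]
      calc π a ^ 31 = π a ^ 31 * ρ g * ρ g⁻¹ := by
            rw [mul_assoc, ← map_mul, mul_inv_cancel, map_one, mul_one]
        _ = 1 := by rw [h2, ← map_mul, mul_inv_cancel, map_one])
    obtain ⟨Q, hQ⟩ := (PElem.of_pow_p (p := 31) hap).exists_sylow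
    obtain ⟨b, hb⟩ := MulAction.exists_smul_eq (Sc 31 (pRes ρ 31)) Q L.P
    have hbP : b * a * b⁻¹ ∈ (L.P : Subgroup (Sc 31 (pRes ρ 31))) := by
      rw [← hb, Sylow.coe_subgroup_smul, Subgroup.mem_pointwise_smul_iff_inv_smul_mem]
      simpa [MulAut.smul_def, mul_assoc] using hQ
    obtain ⟨e, he⟩ := exists_equivP H.mem H.ne
    obtain ⟨i, hi⟩ := e.surjective ⟨_, hbP⟩
    have hai : b * a * b⁻¹ = upow u i := by rw [← he i, hi]
    have hi0 : i ≠ 0 := fun h0 => by
      rw [h0, upow_zero, conj_eq_one_iff] at hai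
      rw [hai, map_one π, one_mul] at ha
      exact H.ne (H.inj (by
        rw [map_one]
        calc π u = ρ g⁻¹ * (ρ g * π u) := by rw [← mul_assoc, ← map_mul, inv_mul_cancel, map_one, one_mul]
          _ = 1 := by rw [← ha, ← map_mul, inv_mul_cancel, map_one]))
    have hbA : π b * ρ g * π u = π (upow u i) * (π b * ρ g) := by
      rw [mul_assoc, ← ha, ← mul_assoc, ← mul_assoc, ← map_mul, ← map_mul,
        show b * a = upow u i * b by rw [← hai]; group]
    have hinj : Function.Injective (π b * ρ g : Module.End ℂ (Fin 16 → ℂ)) :=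
      (injective_rep π b).comp (injective_rep ρ g)
    obtain ⟨n, hn⟩ := conj_thirtyone H.pow H.thirtyone_e (H.exponent_mem hinj hi0 hbA)
    obtain ⟨h₁, c, hc, hh⟩ := exists_lift (n⁻¹ * b)
    refine ⟨h₁, smul_right_injective _ hc ?_⟩
    show c • (ρ ((h₁ : G) * g) * π u) = c • (π u * ρ ((h₁ : G) * g))
    have hd : c • ρ ((h₁ : G) * g) = π n⁻¹ * (π b * ρ g) := by
      rw [map_mul ρ, ← mul_assoc, ← map_mul π, hh, smul_mul_assoc]
      rfl
    rw [← smul_mul_assoc, ← mul_smul_comm, hd, mul_assoc (π n⁻¹), hbA, ← mul_assoc, ← mul_assoc,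
      ← mul_assoc, ← map_mul, ← map_mul,
      show n⁻¹ * upow u i = u * n⁻¹ by rw [← hn]; group, map_mul, map_mul]
    simp only [mul_assoc]
  -- adjust to centralize the element of exponent 7
  obtain ⟨n, hn⟩ := H.exists_seven
  obtain ⟨m, hAn⟩ := exists_conj (p := 31) (ρ := ρ) (by norm_num) ((h₁ : G) * g) n
  rw [← hπ] at hAn
  generalize hAdef : ρ ((h₁ : G) * g) = A at hA hAn
  have hAi : Function.Injective A := hAdef ▸ injective_rep ρ _
  have hAinv : A * ρ ((h₁ : G) * g)⁻¹ = 1 := by rw [← hAdef, ← map_mul, mul_inv_cancel, map_one]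
  have hcancel : ∀ X Y : Module.End ℂ (Fin 16 → ℂ), X * A = Y * A → X = Y := fun X Y hXY => by
    rw [← mul_one X, ← mul_one Y, ← hAinv, ← mul_assoc, ← mul_assoc, hXY]
  have hAu' : ∀ j : ℕ, π (u ^ j) * A = A * π (u ^ j) := fun j => by
    rw [map_pow]
    exact ((show Commute A (π u) from hA).pow_right j).eq.symm
  have hAseven : π (upow u (7 : ZMod 31)) * A = A * π (upow u (7 : ZMod 31)) := hAu' _
  have hmu : m * u * m⁻¹ = upow u (7 : ZMod 31) := by
    refine H.inj (hcancel _ _ ?_)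
    rw [hAseven, ← hn, map_mul, map_mul, map_mul π (n * u) n⁻¹, map_mul π n u]
    have hminv : π m⁻¹ * A = A * π n⁻¹ := by
      calc π m⁻¹ * A = π m⁻¹ * (A * (π n * π n⁻¹)) := by rw [(hinv n).2, mul_one]
        _ = _ := by rw [← mul_assoc A, ← hAn, ← mul_assoc, ← mul_assoc, (hinv m).1, one_mul]
    rw [mul_assoc (π m * π u), hminv, ← mul_assoc, mul_assoc (π m), ← hA, ← mul_assoc, hAn,
      mul_assoc A]
    simp only [mul_assoc]
  have hcent : m * n⁻¹ ∈ Subgroup.centralizer ((L.P : Subgroup (Sc 31 (pRes ρ 31))) : Set _) := by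
    rw [← L.centralizer_singleton H.mem H.ne]
    refine Subgroup.mem_centralizer_singleton_iff.2 ?_
    have h7 : n * u * n⁻¹ * (m * n⁻¹) = m * n⁻¹ * (n * u * n⁻¹) := by
      calc n * u * n⁻¹ * (m * n⁻¹) = m * u * m⁻¹ * (m * n⁻¹) := by rw [hn, hmu]
        _ = _ := by group
    -- `u` is a power of `u ^ 7`
    have hcomm : Commute (m * n⁻¹) (upow u (7 : ZMod 31) ^ (9 : ℕ)) :=
      (show Commute (m * n⁻¹) (upow u (7 : ZMod 31)) from hn ▸ h7.symm).pow_right 9
    rw [upow_pow u H.pow, show (7 : ZMod 31) * ((9 : ℕ) : ZMod 31) = 1 by decide, upow_one] at hcomm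
    exact hcomm.eq
  obtain ⟨v, hv, k, hk, hmn⟩ := L.decomp _ hcent
  obtain ⟨e, he⟩ := exists_equivP H.mem H.ne
  obtain ⟨j₀, hj₀⟩ := e.surjective ⟨v, hv⟩
  have hvj : v = upow u j₀ := by rw [← he j₀, hj₀]
  subst hvj
  have hm' : m = upow u j₀ * k * n := by rw [← hmn]; group
  -- the central part is trivial
  have hk1 : k = 1 := by
    obtain ⟨φ, -, hφ, -⟩ := H.exists_phi
    obtain ⟨l₀, -, h0, -, -⟩ := H.mult31
    obtain ⟨⟨x, hx⟩, hx0, hgenx⟩ := finrank_eq_one_iff'.1 h0
    have hAx : A x ∈ Module.End.eigenspace (π u) (ZMod.stdAddChar (0 : ZMod 31) : ℂ) := by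
      have h := map_eigen (p := 31) (A := A) H.pow (one_mul (1 : ZMod 31))
        (by rw [upow_one]; exact hA) hx
      rwa [one_mul] at h
    have hnx : π n x ∈ Module.End.eigenspace (π u) (ZMod.stdAddChar (0 : ZMod 31) : ℂ) := by
      have h := map_eigen (p := 31) (A := π n) H.pow (show (7 : ZMod 31) * 9 = 1 by decide)
        (by rw [← map_mul, ← map_mul, ← hn]; congr 1; group) hx
      rwa [mul_zero] at h
    obtain ⟨a, ha⟩ := hgenx ⟨A x, hAx⟩
    obtain ⟨η, hη⟩ := hgenx ⟨π n x, hnx⟩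
    have ha' : a • x = A x := congrArg Subtype.val ha
    have hη' : η • x = π n x := congrArg Subtype.val hη
    have hx0' : x ≠ 0 := fun e => hx0 (Subtype.ext e)
    have hL := LinearMap.congr_fun hAn x
    rw [Module.End.mul_apply, Module.End.mul_apply, ← ha', map_smul, hm', map_mul, map_mul,
      Module.End.mul_apply, Module.End.mul_apply, ← hη', map_smul, map_smul, map_smul, ← ha',
      hφ ⟨k, hk⟩, LinearMap.smul_apply, LinearMap.id_apply, map_smul, eigen_upow hx, mul_zero,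
      AddChar.map_zero_eq_one, one_smul, smul_smul, smul_smul, smul_smul] at hL
    have hne : a * η ≠ 0 := by
      refine mul_ne_zero (fun h => hx0' (hAi ?_)) fun h => hx0' (injective_rep π n ?_)
      · rw [← ha', h, zero_smul, map_zero]
      · rw [← hη', h, zero_smul, map_zero]
    have h1 : (φ ⟨k, hk⟩ : ℂ) = 1 := by
      have h2 := smul_left_injective ℂ hx0' hL
      refine mul_left_cancel₀ hne ?_
      linear_combination h2
    refine H.inj ?_
    rw [hφ ⟨k, hk⟩, h1, one_smul, map_one]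
    rfl
  subst hk1
  rw [mul_one] at hm'
  -- a power of `u` removes the remaining part
  obtain ⟨j, hj⟩ : ∃ j : ZMod 31, j + j₀ = 7 * j := ⟨26 * j₀, by
    rw [← mul_assoc, show (7 : ZMod 31) * 26 = 26 + 1 by decide, add_mul, one_mul]⟩
  have hswap : ∀ j : ZMod 31, π n * π (upow u j) = π (upow u (7 * j)) * π n := fun j => by
    rw [← map_mul, ← map_mul]
    congr 1
    calc n * upow u j = n * u ^ j.val * n⁻¹ * n := by rw [upow]; group
      _ = upow u (7 * j) * n := by
        rw [← conj_pow, hn, upow_pow u H.pow, ZMod.natCast_zmod_val]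
  obtain ⟨h₂, c₂, hc₂, hh₂⟩ := exists_lift (upow u j)
  set g₂ : G := (h₂ : G) * ((h₁ : G) * g) with hg₂
  have hB : c₂ • ρ g₂ = π (upow u j) * A := by
    rw [hg₂, map_mul ρ, ← hAdef, hh₂, smul_mul_assoc]
    rfl
  have hBu : ρ g₂ * π u = π u * ρ g₂ := smul_right_injective _ hc₂ (by
    show c₂ • (ρ g₂ * π u) = c₂ • (π u * ρ g₂)
    rw [← smul_mul_assoc, ← mul_smul_comm, hB, mul_assoc, hA, ← mul_assoc, ← mul_assoc, ← map_mul,
      ← map_mul]
    congr 2
    exact ((Commute.refl u).pow_left _).eq)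
  have hBn : ρ g₂ * π n = π n * ρ g₂ := smul_right_injective _ hc₂ (by
    show c₂ • (ρ g₂ * π n) = c₂ • (π n * ρ g₂)
    rw [← smul_mul_assoc, ← mul_smul_comm, hB, mul_assoc, ← hAn, hm', map_mul π (upow u j₀),
      ← mul_assoc, ← mul_assoc, ← map_mul, ← upow_add u H.pow, hj, ← hswap, mul_assoc])
  clear_value g₂
  obtain ⟨a, b, l, x, y, z, hl, hx0, hy0, hz0, hx, hy, hz, hAx, hAy, hAz, hform⟩ :=
    H.two_values hn hBu hBn
  by_cases hab : a = b
  · refine ⟨h₂ * h₁, ?_⟩
    rw [Subgroup.coe_mul, mul_assoc, ← hg₂]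
    subst hab
    rw [sub_self, zero_smul, add_zero] at hform
    exact Subgroup.mem_center_iff.2 fun t => hρ (by
      rw [map_mul, map_mul, hform, mul_smul_comm, smul_mul_assoc, mul_one, one_mul])
  exfalso
  refine hab ?_
  haveI : Finite (rootsOfUnity (Nat.card G) ℂ) := by
    haveI : NeZero (Nat.card G) := ⟨Nat.card_pos.ne'⟩
    infer_instance
  haveI : Finite (bigGroup ρ) := Finite.of_surjective _ (MonoidHom.rangeRestrict_surjective _)
  haveI := Fintype.ofFinite (bigGroup ρ)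
  set w : bigGroup ρ := (MonoidHom.toHomUnits (pairHom ρ)).rangeRestrict (g₂, 1) with hw
  have hRw : ((w : (Module.End ℂ (Fin 16 → ℂ))ˣ) : Module.End ℂ (Fin 16 → ℂ)) = ρ g₂ := by
    show ((((1 : rootsOfUnity (Nat.card G) ℂ) : ℂˣ) : ℂ)) • ρ g₂ = ρ g₂
    simp
  have hpow : ∀ (t : ℂ) (v : Fin 16 → ℂ), ρ g₂ v = t • v → ∀ N : ℕ, ρ (g₂ ^ N) v = t ^ N • v := by
    intro t v htv N
    induction N with
    | zero => rw [pow_zero, map_one, pow_zero, one_smul]; rfl
    | succ N ih => rw [pow_succ, map_mul, Module.End.mul_apply, htv, map_smul, ih, smul_smul, pow_succ']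
  obtain ⟨q, hq⟩ : ∃ q, q = (orderOf g₂).factorization 31 := ⟨_, rfl⟩
  set m' := orderOf g₂ / 31 ^ q with hm''
  have hmeq : 31 ^ q * m' = orderOf g₂ := by
    rw [hm'', hq]; exact Nat.ordProj_mul_ordCompl_eq_self _ _
  have hm31 : ¬ 31 ∣ m' := by
    rw [hm'', hq]; exact Nat.not_dvd_ordCompl (by norm_num) (orderOf_pos g₂).ne'
  have hpe : PElem 31 (g₂ ^ m') := ⟨q, by
    rw [← pow_mul, mul_comm, hmeq, pow_orderOf_eq_one]⟩
  obtain ⟨s, c, hc, hs, hsp, -⟩ := exists_scaled (p := 31) (σ := pRes ρ 31) (by norm_num : 0 < 16)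
    (by norm_num : 16 < 31) (x := ⟨g₂ ^ m', Subgroup.subset_closure hpe⟩) (by
      obtain ⟨i, hi⟩ := hpe; exact ⟨i, Subtype.ext (by simpa using hi)⟩)
  change π s = c • ρ (g₂ ^ m') at hs
  have hsu : Commute s u := H.inj (by
    rw [map_mul, map_mul, hs, smul_mul_assoc, mul_smul_comm, map_pow,
      ((show Commute (ρ g₂) (π u) from hBu).pow_left m').eq])
  have hsc : s ∈ Subgroup.centralizer ((L.P : Subgroup (Sc 31 (pRes ρ 31))) : Set _) := by
    rw [← L.centralizer_singleton H.mem H.ne]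
    exact Subgroup.mem_centralizer_singleton_iff.2 hsu.eq
  obtain ⟨v', hv', k', hk', hsk⟩ := L.decomp _ hsc
  have hk'1 : k' = 1 := by
    obtain ⟨i, hi⟩ := hsp
    rw [hsk, (L.commute hv' hk').mul_pow] at hi
    obtain ⟨-, h2⟩ := L.ext_mul (pow_mem hv' _) (pow_mem hk' _) (one_mem _) (one_mem _)
      (hi.trans (one_mul (1 : Sc 31 (pRes ρ 31))).symm)
    exact orderOf_eq_one_iff.1 (Nat.eq_one_of_dvd_coprimes
      (((Fact.out : Nat.Prime 31).coprime_iff_not_dvd.2 (L.not_dvd_orderOf hk')).pow_left i)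
      (orderOf_dvd_of_pow_eq_one h2) dvd_rfl)
  rw [hk'1, mul_one] at hsk
  obtain ⟨i, hi⟩ := e.surjective ⟨v', hv'⟩
  have hsi : s = upow u i := by rw [hsk, ← he i, hi]
  have hval : ∀ (t : ℂ) (l : ZMod 31) (v : Fin 16 → ℂ), v ≠ 0 → ρ g₂ v = t • v →
      v ∈ Module.End.eigenspace (π u) (ZMod.stdAddChar l : ℂ) →
        c * t ^ m' = (ZMod.stdAddChar (i * l) : ℂ) := fun t l v hv0 htv hvl => by
    have h := LinearMap.congr_fun hs v
    rw [hsi, eigen_upow hvl, LinearMap.smul_apply, hpow t v htv, smul_smul] at h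
    exact (smul_left_injective ℂ hv0 h).symm
  have e1 := hval a 0 x hx0 hAx hx
  have e2 := hval b l y hy0 hAy hy
  have e3 := hval b (9 * l) z hz0 hAz hz
  have hi0 : i = 0 := by
    have h := ZMod.injective_stdAddChar (e2.symm.trans e3)
    have h8 : (8 : ZMod 31) * (i * l) = 0 := by linear_combination -h
    simpa [hl, show (8 : ZMod 31) ≠ 0 by decide] using h8
  rw [hi0, zero_mul, AddChar.map_zero_eq_one] at e1 e2
  have hab' : a ^ m' = b ^ m' := mul_left_cancel₀ (left_ne_zero_of_mul (e1.trans_ne one_ne_zero))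
    (e1.trans e2.symm)
  have hbW : b ^ Nat.card (bigGroup ρ) = 1 := by
    have h1 := congrArg (fun t : bigGroup ρ => ((t : (Module.End ℂ (Fin 16 → ℂ))ˣ) :
      Module.End ℂ (Fin 16 → ℂ)) y) (pow_card_eq_one' (x := w))
    simp only [SubmonoidClass.coe_pow, Units.val_pow_eq_pow_val, hRw, OneMemClass.coe_one,
      Units.val_one, Module.End.one_apply] at h1
    rw [← map_pow, hpow b y hAy] at h1
    exact smul_left_injective ℂ hy0 (h1.trans (one_smul ℂ y).symm)
  exact H.eq_of_two_values ((Units.coeHom _).comp (bigGroup ρ).subtype)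
    (Subgroup.inclusion (sc_le_bigGroup (ρ := ρ) (by norm_num))) (fun _ => rfl) (w := w)
    (hRw.trans hform) hbW hm31 hab'

omit [ρ.IsIrreducible] in
/-- The theorem for groups in the lowest universe. -/
theorem normal_or_psl (ρ : Representation ℂ G (Fin 16 → ℂ)) [ρ.IsIrreducible]
    (hρ : Function.Injective ρ) {p : ℕ} [hp : Fact p.Prime] (hp19 : 19 ≤ p) :
    (∀ P : Sylow p G, (P : Subgroup G).Normal) ∨
      (p = 31 ∧ Nonempty ((G ⧸ Subgroup.center G) ≃*
        Matrix.ProjectiveSpecialLinearGroup (Fin 2) (ZMod 31))) := by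
  classical
  by_cases hc : ∀ a b : Subgroup.closure {x : G | PElem p x}, a * b = b * a
  · refine Or.inl fun P => ?_
    have hN : (Subgroup.closure {x : G | PElem p x}).Normal :=
      ⟨fun x hx g => conj_mem_closure hx g⟩
    have hP : (P : Subgroup G) = Subgroup.closure {x : G | PElem p x} := by
      refine (P.is_maximal' ?_ fun x hx => Subgroup.subset_closure (PElem.of_mem P.isPGroup' hx)).symm
      refine isPGroup_of_forall fun x hx => ?_
      exact ((gen_closure (s := {x : G | PElem p x}) fun x hx => hx).isPGroup hc ⟨x, hx⟩).map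
        (Subgroup.subtype _)
    rw [hP]
    exact hN
  push Not at hc
  haveI := irreducible_pRes ρ hρ hp19 hc
  have hgen : Gen p (Subgroup.closure {x : G | PElem p x}) := gen_closure fun x hx => hx
  haveI := finite_sc (p := p) (σ := pRes ρ p) (by norm_num : 0 < 16) (by omega)
  haveI := Fintype.ofFinite (Sc p (pRes ρ p))
  haveI := scRep_irreducible (p := p) (σ := pRes ρ p) (by norm_num : 0 < 16) (by omega) hgen
  obtain ⟨L, u, H⟩ := exists_lin16 (ρ := ρ) hp19
  obtain ⟨l₀, -, -, ⟨h19, -⟩ | ⟨h31, -⟩⟩ := H.cases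
  · subst h19
    exact H.not_nineteen.elim
  · subst h31
    obtain ⟨e⟩ := nonempty_center_equiv hρ (by norm_num) (covers_center hρ H)
    obtain ⟨e'⟩ := H.psl31
    exact Or.inr ⟨rfl, ⟨e.trans e'⟩⟩

end CfsgLib.DegreeSixteen
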