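import Cfsg.Agent.DegreeSixteen.Reduction

/-!
# Sylow subgroups of linear groups of degree at most 16

The irreducible case and the induction: `|P| ≤ p · |O_p(G)|` for every Sylow `p`-subgroup.
-/

set_option autoImplicit false
set_option linter.style.haveILetI false
set_option linter.unusedSectionVars false

namespace CfsgLib.DegreeSixteen

open Cfsg CfsgLib.Characters

variable {p : ℕ} [hp : Fact p.Prime] {G : Type} [Group G] [Finite G] {n : ℕ}
  {ρ : Representation ℂ G (Fin n → ℂ)}

/-- A central `p`-element lies in every Sylow subgroup. -/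
theorem mem_core_of_central {x : G} (hx : PElem p x) (hc : x ∈ Subgroup.center G) :
    x ∈ core p G := by
  haveI : (Subgroup.zpowers x).Normal := ⟨fun m hm g => by
    rw [Subgroup.mem_center_iff.1 (Subgroup.zpowers_le.2 hc hm) g, mul_inv_cancel_right]; exact hm⟩
  exact le_core hx.zpowers (Subgroup.mem_zpowers x)

theorem eigenspace_le_pow (v : G) (μ : ℂ) (m : ℕ) :
    Module.End.eigenspace (ρ v) μ ≤ Module.End.eigenspace (ρ (v ^ m)) (μ ^ m) := fun w hw => by
  rw [Module.End.mem_eigenspace_iff] at hw ⊢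
  rw [map_pow]
  induction m with
  | zero => simp
  | succ m ih => rw [pow_succ, Module.End.mul_apply, hw, map_smul, ih, smul_smul, pow_succ, mul_comm]

/-- An element commuting with an irreducible subgroup of a faithful linear group is central. -/
theorem central_of_irreducible (hρ : Function.Injective ρ) (H : Subgroup G)
    [Representation.IsIrreducible
      (MonoidHom.comp ρ H.subtype : Representation ℂ H (Fin n → ℂ))] {g : G}
    (hg : ∀ h ∈ H, Commute g h) : g ∈ Subgroup.center G := by
  obtain ⟨c, hc⟩ := schur_scalar (MonoidHom.comp ρ H.subtype : Representation ℂ H (Fin n → ℂ)) (ρ g)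
    fun h v => by
      show ρ g (ρ h v) = ρ h (ρ g v)
      rw [← Module.End.mul_apply, ← map_mul, (hg h h.2).eq, map_mul]
      rfl
  refine Subgroup.mem_center_iff.2 fun a => hρ ?_
  rw [map_mul, map_mul, hc]
  ext v
  simp [Module.End.mul_apply]

theorem commute_of_mem_closure_pair {g x y : G} (hx : Commute g x) (hy : Commute g y) :
    ∀ h ∈ Subgroup.closure ({x, y} : Set G), Commute g h := fun _ hh =>
  (Subgroup.mem_centralizer_singleton_iff.1 (closure_pair_le_centralizer hx.symm hy.symm hh) : _).symm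

/-- The noncommutative component of two `p`-elements centralizing a noncentral element. -/
theorem exists_pair_component (hρ : Function.Injective ρ) (hIH : IH p n) (hn : n ≤ 16)
    (hp19 : 19 ≤ p) {g x y : G} (hg : g ∉ Subgroup.center G) (hx : PElem p x) (hy : PElem p y)
    (hgx : Commute g x) (hgy : Commute g y) (hxy : ¬ Commute x y) :
    ∃ (H : Subgroup G) (W T : Subrepresentation (MonoidHom.comp ρ H.subtype :
      Representation ℂ H (Fin n → ℂ))), (∀ h ∈ H, Commute g h) ∧ Gen p H ∧
      IsCompl W.toSubmodule T.toSubmodule ∧ W.toRepresentation.IsIrreducible ∧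
      Module.finrank ℂ W.toSubmodule < n ∧
      NC (MonoidHom.comp ρ H.subtype : Representation ℂ H (Fin n → ℂ)) W.toSubmodule ∧
      ¬ NC (MonoidHom.comp ρ H.subtype : Representation ℂ H (Fin n → ℂ)) T.toSubmodule ∧
      9 ≤ Module.finrank ℂ W.toSubmodule ∧ ∃ c : ℂ, ∀ v ∈ W.toSubmodule, ρ g v = c • v := by
  set H := Subgroup.closure ({x, y} : Set G)
  have hcomm := commute_of_mem_closure_pair hgx hgy
  have hgenH : Gen p H := gen_closure (by rintro z (rfl | rfl) <;> assumption)
  set ρH : Representation ℂ H (Fin n → ℂ) := MonoidHom.comp ρ H.subtype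
  have hred : ¬ ρH.IsIrreducible := fun h => by
    haveI := h
    exact hg (central_of_irreducible hρ H hcomm)
  obtain ⟨W, T, hT, hW, hWnc, hWlt, hW9, hTc⟩ := exists_component ρH hIH hn hp19 hgenH hred
    ⟨⟨x, Subgroup.subset_closure (Set.mem_insert _ _)⟩,
      ⟨y, Subgroup.subset_closure (Set.mem_insert_of_mem _ rfl)⟩, fun h => hxy (hρ h)⟩
  haveI := hW
  refine ⟨H, W, T, hcomm, hgenH, hT, hW, hWlt, hWnc, hTc, hW9, ?_⟩
  exact scalar_on_component ρH hT hWnc hTc (ρ g) (fun h => by
    show ρ g * ρ h = ρ h * ρ g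
    rw [← map_mul, (hcomm h h.2).eq, map_mul]) (injective_rep ρ g)

section Irreducible

variable (hρ : Function.Injective ρ) (hIH : IH p n) (hn : n ≤ 16) (hp19 : 19 ≤ p)
  (hgen : Gen p G) (hcore : core p G = ⊥)

include hρ hIH hn hp19 hgen hcore

theorem eq_one_of_big {v : G} (hv : PElem p v) {μ : ℂ}
    (h9 : 9 ≤ Module.finrank ℂ (Module.End.eigenspace (ρ v) μ)) : v = 1 := by
  classical
  obtain ⟨k, hk⟩ := hv
  induction k generalizing v μ with
  | zero => simpa using hk
  | succ k ih =>
    have h1 : v ^ p = 1 := by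
      refine ih (μ := μ ^ p) ?_ (by rw [← pow_mul, ← pow_succ']; exact hk)
      exact h9.trans (Submodule.finrank_mono (eigenspace_le_pow v μ p))
    have := mem_core_of_big hρ hIH hn hp19 h1 h9
    rwa [hcore, Subgroup.mem_bot] at this

theorem eq_one_of_central {v : G} (hv : PElem p v) (hc : v ∈ Subgroup.center G) : v = 1 := by
  have := mem_core_of_central hv hc
  rwa [hcore, Subgroup.mem_bot] at this

/-- Distinct Sylow subgroups meet trivially. -/
theorem sylow_eq_of_mem {P Q : Sylow p G} {v : G} (hP : v ∈ (P : Subgroup G))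
    (hQ : v ∈ (Q : Subgroup G)) (hv1 : v ≠ 1) : P = Q := by
  have hv := PElem.of_mem P.isPGroup' hP
  have hab := fun {R : Subgroup G} (hR : IsPGroup p R) {a b : G} ha hb =>
    commute_of_isPGroup ρ hρ (by omega) hR (a := a) (b := b) ha hb
  have hcomm : ∀ x y : G, PElem p x → PElem p y → Commute v x → Commute v y → Commute x y := by
    intro x y hx hy hvx hvy
    by_contra hxy
    obtain ⟨H, W, T, -, -, -, -, -, -, -, hW9, c, hc⟩ := exists_pair_component hρ hIH hn hp19
      (fun h => hv1 (eq_one_of_central hρ hIH hn hp19 hgen hcore hv h)) hx hy hvx hvy hxy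
    exact hv1 (eq_one_of_big hρ hIH hn hp19 hgen hcore hv (hW9.trans (Submodule.finrank_mono
      fun w hw => Module.End.mem_eigenspace_iff.2 (hc w hw))))
  let R : Subgroup G := Subgroup.closure ((P : Set G) ∪ (Q : Set G))
  have hmem : ∀ a ∈ (P : Set G) ∪ (Q : Set G), PElem p a ∧ Commute v a := by
    rintro a (ha | ha)
    · exact ⟨PElem.of_mem P.isPGroup' ha, hab P.isPGroup' hP ha⟩
    · exact ⟨PElem.of_mem Q.isPGroup' ha, hab Q.isPGroup' hQ ha⟩
  haveI : IsMulCommutative R := Subgroup.isMulCommutative_closure fun a ha b hb =>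
    (hcomm a b (hmem a ha).1 (hmem b hb).1 (hmem a ha).2 (hmem b hb).2).eq
  have hR : IsPGroup p R := isPGroup_of_forall fun a ha =>
    ((gen_closure fun a ha => (hmem a ha).1).isPGroup (fun a b => mul_comm' a b) ⟨a, ha⟩).map
      (Subgroup.subtype _)
  have h1 := P.is_maximal' hR fun a ha => Subgroup.subset_closure (Or.inl ha)
  have h2 := Q.is_maximal' hR fun a ha => Subgroup.subset_closure (Or.inr ha)
  exact Sylow.ext (h1.symm.trans h2)

/-- Commuting nontrivial elements lie in the same Sylow subgroup. -/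
theorem sylow_eq_of_commute {P Q : Sylow p G} {x y : G} (hP : x ∈ (P : Subgroup G))
    (hQ : y ∈ (Q : Subgroup G)) (hx1 : x ≠ 1) (hy1 : y ≠ 1) (hxy : Commute x y) : P = Q := by
  let R : Subgroup G := Subgroup.closure ({x, y} : Set G)
  have hpe : ∀ a ∈ ({x, y} : Set G), PElem p a := by
    rintro a (rfl | rfl)
    · exact PElem.of_mem P.isPGroup' hP
    · exact PElem.of_mem Q.isPGroup' hQ
  haveI : IsMulCommutative R := Subgroup.isMulCommutative_closure (by
    rintro a (rfl | rfl) b (rfl | rfl)
    · rfl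
    · exact hxy.eq
    · exact hxy.eq.symm
    · rfl)
  have hR : IsPGroup p R := isPGroup_of_forall fun a ha =>
    ((gen_closure hpe).isPGroup (fun a b => mul_comm' a b) ⟨a, ha⟩).map (Subgroup.subtype _)
  obtain ⟨S, hS⟩ := hR.exists_le_sylow
  rw [sylow_eq_of_mem hρ hIH hn hp19 hgen hcore hP
      (hS (Subgroup.subset_closure (Set.mem_insert _ _))) hx1,
    sylow_eq_of_mem hρ hIH hn hp19 hgen hcore hQ
      (hS (Subgroup.subset_closure (Set.mem_insert_of_mem _ rfl))) hy1]

/-- If the Sylow subgroups have order more than `p`, the nontrivial `p`-elements centralizing a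
noncentral element commute. -/
theorem commute_of_centralize {P₀ : Sylow p G} (hbig : p < Nat.card (P₀ : Subgroup G)) {g x y : G}
    (hg : g ∉ Subgroup.center G) (hx : PElem p x) (hy : PElem p y) (hgx : Commute g x)
    (hgy : Commute g y) : Commute x y := by
  classical
  by_contra hxy
  obtain ⟨H, W, T, hcomm, hgenH, hT, hW, hWlt, hWnc, hTc, hW9, c, hc⟩ :=
    exists_pair_component hρ hIH hn hp19 hg hx hy hgx hgy hxy
  haveI := hW
  obtain ⟨-, -, y1, hy1c, hy1p, hfix⟩ :=
    piece (MonoidHom.comp ρ H.subtype : Representation ℂ H (Fin n → ℂ)) hIH (by omega) hp19 hgenH W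
      hWlt hWnc
  let ρH : Representation ℂ H (Fin n → ℂ) := MonoidHom.comp ρ H.subtype
  simp only [NC, not_exists, not_and, not_not] at hTc
  -- `y1` fixes the commutative part
  have hyT : ∀ t ∈ T.toSubmodule, ρH y1 t = t := by
    let M : Subgroup H :=
      { carrier := {h | ∀ t ∈ T.toSubmodule, ρH h t = t}
        one_mem' := fun t _ => by simp
        mul_mem' := fun {a b} ha hb t ht => by rw [map_mul, Module.End.mul_apply, hb t ht, ha t ht]
        inv_mem' := fun {a} ha t ht => by
          conv_lhs => rw [← ha t ht]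
          rw [← Module.End.mul_apply, ← map_mul, inv_mul_cancel, map_one, Module.End.one_apply] }
    have hle : commutator H ≤ M := by
      rw [commutator_eq_closure, Subgroup.closure_le]
      rintro _ ⟨a, b, rfl⟩ t ht
      rw [commutatorElement_def, mul_assoc, ← mul_inv_rev, map_mul, Module.End.mul_apply,
        hTc a b _ (T.apply_mem_toSubmodule _ ht), ← Module.End.mul_apply, ← map_mul, mul_inv_cancel,
        map_one, Module.End.one_apply]
    exact hle hy1c
  set z1 : G := (y1 : G)
  set D : Module.End ℂ (Fin n → ℂ) := ρ z1 - 1 with hD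
  have hDW : ∀ u, D u ∈ W.toSubmodule := by
    intro u
    obtain ⟨w, hw, t, ht, rfl⟩ := Submodule.mem_sup.1
      (hT.sup_eq_top.ge (Submodule.mem_top : u ∈ ⊤))
    rw [hD, LinearMap.sub_apply, Module.End.one_apply, map_add,
      show ρ z1 t = t from hyT t ht, add_sub_add_right_eq_sub]
    exact sub_mem (W.apply_mem_toSubmodule y1 hw) hw
  have hrange : 9 ≤ Module.finrank ℂ (LinearMap.range D) := by
    set K := Module.End.eigenspace (ρ z1) 1
    have hker : LinearMap.ker D = K := by
      ext u
      rw [LinearMap.mem_ker, hD, LinearMap.sub_apply, sub_eq_zero, Module.End.one_apply,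
        Module.End.mem_eigenspace_iff, one_smul]
    have h1 := LinearMap.finrank_range_add_finrank_ker D
    have h2 := Submodule.finrank_sup_add_finrank_inf_eq K W.toSubmodule
    have h3 := (K ⊔ W.toSubmodule).finrank_le
    have h4 : Module.finrank ℂ (K ⊓ W.toSubmodule : Submodule ℂ (Fin n → ℂ)) + 9 ≤
        Module.finrank ℂ W.toSubmodule := hfix
    rw [hker, Module.finrank_fin_fun] at h1
    rw [Module.finrank_fin_fun] at h3
    omega
  have hz11 : z1 ≠ 1 := fun h => by
    rw [show D = 0 by rw [hD, h, map_one, sub_self], LinearMap.range_zero, finrank_bot] at hrange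
    omega
  have hz1p : PElem p z1 := hy1p.map (Subgroup.subtype _)
  obtain ⟨Pc, hPc⟩ := hz1p.exists_sylow
  have hgz1 : Commute g z1 := hcomm _ y1.2
  have hnorm : g • Pc = Pc := by
    refine sylow_eq_of_mem hρ hIH hn hp19 hgen hcore ?_ hPc hz11
    rw [Sylow.coe_subgroup_smul]
    exact ⟨z1, hPc, show g * z1 * g⁻¹ = z1 by rw [hgz1.eq, mul_inv_cancel_right]⟩
  have hgP : ∀ z ∈ (Pc : Subgroup G), Commute g z := by
    intro z hz
    have hg' : g * z⁻¹ * g⁻¹ ∈ (Pc : Subgroup G) := by
      rw [← hnorm, Sylow.coe_subgroup_smul]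
      exact ⟨z⁻¹, inv_mem hz, rfl⟩
    have hv : z * g * z⁻¹ * g⁻¹ ∈ (Pc : Subgroup G) := by
      have := mul_mem hz hg'
      simpa [mul_assoc] using this
    have hzc : Commute z z1 := commute_of_isPGroup ρ hρ (by omega) Pc.isPGroup' hz hPc
    have hrel : ∀ a : G, Commute a z1 → ∀ u ∈ LinearMap.range D, ρ a u ∈ LinearMap.range D := by
      rintro a ha _ ⟨w, rfl⟩
      refine ⟨ρ a w, ?_⟩
      rw [hD, LinearMap.sub_apply, LinearMap.sub_apply, Module.End.one_apply, Module.End.one_apply,
        map_sub, ← Module.End.mul_apply, ← Module.End.mul_apply, ← map_mul, ← map_mul, ha.eq]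
    have hW' : ∀ u ∈ LinearMap.range D, u ∈ W.toSubmodule := by
      rintro _ ⟨w, rfl⟩; exact hDW w
    have hone' : z * g * z⁻¹ * g⁻¹ = 1 := eq_one_of_big hρ hIH hn hp19 hgen hcore
      (PElem.of_mem Pc.isPGroup' hv) (μ := 1) (hrange.trans (Submodule.finrank_mono fun u hu => by
        rw [Module.End.mem_eigenspace_iff, one_smul, map_mul, map_mul, map_mul,
          Module.End.mul_apply, Module.End.mul_apply, Module.End.mul_apply]
        have hu1 := hrel g⁻¹ hgz1.inv_left u hu
        have hu2 := hrel z⁻¹ hzc.inv_left _ hu1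
        rw [hc _ (hW' _ hu2), ← (ρ z⁻¹).map_smul, ← hc _ (hW' _ hu1), ← Module.End.mul_apply,
          ← Module.End.mul_apply, ← Module.End.mul_apply, ← map_mul, ← map_mul, ← map_mul]
        simp [mul_assoc]))
    show g * z = z * g
    calc g * z = (z * g * z⁻¹ * g⁻¹)⁻¹ * (z * g) := by group
      _ = z * g := by rw [hone', inv_one, one_mul]
  set L := Subgroup.closure {a : G | PElem p a ∧ Commute g a}
  have hLc : ∀ a ∈ L, Commute g a := fun a ha => by
    have hle : L ≤ Subgroup.centralizer ({g} : Set G) := (Subgroup.closure_le _).2 fun b hb =>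
      Subgroup.mem_centralizer_singleton_iff.2 hb.2.symm.eq
    exact (Subgroup.mem_centralizer_singleton_iff.1 (hle ha) : a * g = g * a).symm
  have hgenL : Gen p L := gen_closure fun a ha => ha.1
  set ρL : Representation ℂ L (Fin n → ℂ) := MonoidHom.comp ρ L.subtype
  have hρL : Function.Injective ρL := hρ.comp Subtype.val_injective
  have hredL : ¬ ρL.IsIrreducible := fun h => by
    haveI := h
    exact hg (central_of_irreducible hρ L hLc)
  have hgoodL := good_of_reducible ρL hρL hIH hn hp19 hgenL hredL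
  have hPcL : (Pc : Subgroup G) ≤ L := fun z hz =>
    Subgroup.subset_closure ⟨PElem.of_mem Pc.isPGroup' hz, hgP z hz⟩
  have hcard := hgoodL (Pc.subtype hPcL)
  rw [Sylow.coe_subtype, Nat.card_congr (Subgroup.subgroupOfEquivOfLe hPcL).toEquiv,
    Pc.card_eq_multiplicity, ← P₀.card_eq_multiplicity] at hcard
  obtain ⟨w, hw, hw1⟩ : ∃ w ∈ core p L, w ≠ 1 := by
    refine (Subgroup.bot_or_exists_ne_one _).resolve_left fun h => ?_
    rw [h, Subgroup.card_bot, mul_one] at hcard
    omega
  have hwc := core_le_center ρL hρL (by omega) hgenL hw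
  have hw1' : (w : G) ≠ 1 := fun h => hw1 (Subtype.ext h)
  have hwP : (w : G) ∈ (Pc : Subgroup G) := by
    have := mem_core.1 hw (Pc.subtype hPcL)
    rw [Sylow.coe_subtype] at this
    exact Subgroup.mem_subgroupOf.1 this
  have hx1 : x ≠ 1 := fun h => hxy (h ▸ Commute.one_left y)
  have hy1' : y ≠ 1 := fun h => hxy (h ▸ Commute.one_right x)
  obtain ⟨P1, hP1⟩ := hx.exists_sylow
  obtain ⟨P2, hP2⟩ := hy.exists_sylow
  have hcomw : ∀ a : G, PElem p a → Commute g a → Commute a w := fun a ha hga =>
    congrArg Subtype.val (Subgroup.mem_center_iff.1 hwc ⟨a, Subgroup.subset_closure ⟨ha, hga⟩⟩)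
  rw [sylow_eq_of_commute hρ hIH hn hp19 hgen hcore hP1 hwP hx1 hw1' (hcomw x hx hgx)] at hP1
  rw [sylow_eq_of_commute hρ hIH hn hp19 hgen hcore hP2 hwP hy1' hw1' (hcomw y hy hgy)] at hP2
  exact hxy (commute_of_isPGroup ρ hρ (by omega) Pc.isPGroup' hP1 hP2)

/-- The Sylow subgroups have order at most `p`. -/
theorem card_le_p [ρ.IsIrreducible] (P : Sylow p G) : Nat.card (P : Subgroup G) ≤ p := by
  classical
  haveI := Fintype.ofFinite G
  haveI := Fintype.ofFinite (P : Subgroup G)
  by_contra hbig
  push Not at hbig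
  have hnp : n < p := by omega
  have hall : ∀ M : Subgroup G, M.Normal → (P : Subgroup G) ≤ M → M = ⊤ := fun M hM hle =>
    hgen.eq_top fun x hx => by
      obtain ⟨Q, hQ⟩ := hx.exists_sylow
      obtain ⟨g, rfl⟩ := MulAction.exists_smul_eq G P Q
      rw [Sylow.coe_subgroup_smul] at hQ
      obtain ⟨w, hw, rfl⟩ := Subgroup.mem_map.1
        (show x ∈ (P : Subgroup G).map (MulAut.conj g).toMonoidHom from hQ)
      exact hM.conj_mem w (hle hw) g
  by_cases hn1 : n = 1
  · subst hn1
    have hcomm : ∀ a b : G, Commute a b := fun a b => hρ (by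
      rw [map_mul, map_mul]
      obtain ⟨c, hc⟩ : ∃ c : ℂ, ρ a = c • LinearMap.id := ⟨ρ a 1 0, LinearMap.ext fun v => by
        have hv : v = v 0 • (1 : Fin 1 → ℂ) := by funext i; fin_cases i; simp
        rw [hv, map_smul, LinearMap.smul_apply, LinearMap.id_apply]
        funext i; fin_cases i; simp [mul_comm]⟩
      rw [hc]
      ext v
      simp [Module.End.mul_apply])
    have htop := hgen.isPGroup hcomm
    have := le_core (p := p) (R := (⊤ : Subgroup G)) (isPGroup_of_forall fun x _ => htop x)
    rw [hcore] at this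
    have := (Subgroup.card_le_of_le ((le_top : (P : Subgroup G) ≤ ⊤).trans this))
    rw [Subgroup.card_bot] at this
    have := hp.out.two_le
    omega
  have hlt := CharactersDeep.AbelianBound.card_lt_succ_sq (H := (P : Subgroup G))
    (fun a ha b hb => (commute_of_isPGroup ρ hρ hnp P.isPGroup' ha hb).eq)
    (eq_bot_iff.2 fun x hx => Subgroup.mem_bot.2
      (eq_one_of_central hρ hIH hn hp19 hgen hcore (PElem.of_mem P.isPGroup' hx.1) hx.2))
    ?_ (isIrrCharacter_character ρ) (n := n) (by rw [Representation.char_one, Module.finrank_fin_fun])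
    hn1 hall
  · obtain ⟨k, hk⟩ := (IsPGroup.iff_card.1 P.isPGroup')
    have h2 : (1 + n) ^ 2 ≤ 17 ^ 2 := Nat.pow_le_pow_left (by omega) 2
    have h3 : p ^ 2 ≤ Nat.card (P : Subgroup G) := by
      rw [hk] at hbig ⊢
      refine Nat.pow_le_pow_right hp.out.pos ?_
      by_contra hk2
      have : p ^ k ≤ p :=
        (Nat.pow_le_pow_right hp.out.pos (by omega : k ≤ 1)).trans_eq (pow_one p)
      omega
    have h4 : 19 ^ 2 ≤ p ^ 2 := Nat.pow_le_pow_left hp19 2
    omega
  · intro g hg a b ha hb
    obtain ⟨x, hx, hx1⟩ := (Subgroup.bot_or_exists_ne_one _).resolve_left ha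
    obtain ⟨y, hy, hy1⟩ := (Subgroup.bot_or_exists_ne_one _).resolve_left hb
    have hxS : x ∈ ((a • P : Sylow p G) : Subgroup G) := by
      rw [Sylow.coe_subgroup_smul]; exact hx.2
    have hyS : y ∈ ((b • P : Sylow p G) : Subgroup G) := by
      rw [Sylow.coe_subgroup_smul]; exact hy.2
    have heq := sylow_eq_of_commute hρ hIH hn hp19 hgen hcore hxS hyS hx1 hy1
      (commute_of_centralize hρ hIH hn hp19 hgen hcore hbig hg
        (PElem.of_mem (a • P).isPGroup' hxS) (PElem.of_mem (b • P).isPGroup' hyS)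
        (Subgroup.mem_centralizer_singleton_iff.1 hx.1 : x * g = g * x).symm
        (Subgroup.mem_centralizer_singleton_iff.1 hy.1 : y * g = g * y).symm)
    have := congrArg (fun S : Sylow p G => (S : Subgroup G)) heq
    simp only [Sylow.coe_subgroup_smul] at this
    exact this

end Irreducible

/-- In degree at most 16 the Sylow `p`-subgroups exceed the core by a factor of at most `p`. -/
theorem good_all (hp19 : 19 ≤ p) : ∀ n ≤ 16, ∀ (G : Type) [Group G] [Finite G]
    (ρ : Representation ℂ G (Fin n → ℂ)), Function.Injective ρ → Good p G := by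
  intro n
  induction n using Nat.strong_induction_on with
  | _ n ih =>
    intro hn G _ _ ρ hρ
    have hIH : IH p n := fun m hm G _ _ σ hσ => ih m hm (by omega) G σ hσ
    refine good_of_closure ?_
    set L := Subgroup.closure {x : G | PElem p x}
    have hgen : Gen p L := gen_closure fun x hx => hx
    set σ : Representation ℂ L (Fin n → ℂ) := MonoidHom.comp ρ L.subtype
    have hσ : Function.Injective σ := hρ.comp Subtype.val_injective
    by_cases hirr : σ.IsIrreducible
    swap
    · exact good_of_reducible σ hσ hIH hn hp19 hgen hirr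
    haveI := hirr
    have hd : 0 < n := by
      have := finrank_pos_of_isIrreducible σ
      rwa [Module.finrank_fin_fun] at this
    have hdp : n < p := by omega
    haveI := finite_sc (σ := σ) hd hdp
    haveI := scRep_irreducible (σ := σ) hd hdp hgen
    intro P
    obtain ⟨ψ, hψ⟩ := exists_scHom (σ := σ) hd hdp P.isPGroup'
    have hker : Nat.card ψ.ker ≤ Nat.card (core p L) := by
      refine Nat.card_le_card_of_injective
        (fun x => ⟨((x : (P : Subgroup L)) : L), mem_core_of_central (PElem.of_mem P.isPGroup' x.1.2) ?_⟩)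
        fun x y e => Subtype.ext (Subtype.ext (congrArg Subtype.val e :))
      obtain ⟨c, ⟨k, hk⟩, hc⟩ := hψ x.1
      rw [show ψ x.1 = 1 from x.2, map_one] at hc
      refine Subgroup.mem_center_iff.2 fun a => hσ ?_
      have hc0 : c ≠ 0 := fun h0 => by
        rw [h0, zero_pow (pow_ne_zero k hp.out.ne_zero)] at hk; exact zero_ne_one hk
      have hx : σ ((x : (P : Subgroup L)) : L) = c⁻¹ • 1 := by
        rw [hc, smul_smul, inv_mul_cancel₀ hc0, one_smul]
      rw [map_mul, map_mul, hx, smul_mul_assoc, mul_smul_comm, one_mul, mul_one]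
    obtain ⟨Q, hQ⟩ := (IsPGroup.of_surjective P.isPGroup' ψ.rangeRestrict
      ψ.rangeRestrict_surjective : IsPGroup p ψ.range).exists_le_sylow
    have hrange : Nat.card ψ.range ≤ p := (Subgroup.card_le_of_le hQ).trans
      (card_le_p (ρ := scRep p σ) scRep_injective hIH hn hp19 gen_sc
        (core_sc_eq_bot hd hdp hgen) Q)
    rw [← ψ.ker.card_mul_index, Subgroup.index_ker, mul_comm]
    exact Nat.mul_le_mul hrange hker

end CfsgLib.DegreeSixteen
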