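import Cfsg.Agent.DegreeSixteen.Core.Nineteen
import Cfsg.Agent.DegreeSixteen.Core.Normalizer

/-!
# Linear groups of degree 16 and primes at least 19

The Sylow subgroup is normal or the prime is 31 and the group modulo its centre is `PSL(2, 31)`.
-/

set_option autoImplicit false
set_option linter.style.haveILetI false
set_option linter.unusedSectionVars false

namespace CfsgLib.DegreeSixteen

open Cfsg CfsgLib.Characters CfsgLib.SmallDegreeP CfsgLib.DefectOne

variable {p : ℕ} [hp : Fact p.Prime] {G : Type} [Group G] [Finite G]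
  (ρ : Representation ℂ G (Fin 16 → ℂ)) [ρ.IsIrreducible]

/-- The subgroup generated by the `p`-elements, as a representation. -/
noncomputable abbrev pRes (p : ℕ) :
    Representation ℂ (Subgroup.closure {x : G | PElem p x}) (Fin 16 → ℂ) :=
  MonoidHom.comp ρ (Subgroup.closure {x : G | PElem p x}).subtype

omit [ρ.IsIrreducible] in
theorem conj_mem_closure {x : G} (hx : x ∈ Subgroup.closure {x : G | PElem p x}) (g : G) :
    g * x * g⁻¹ ∈ Subgroup.closure {x : G | PElem p x} := by
  induction hx using Subgroup.closure_induction with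
  | mem x hx => exact Subgroup.subset_closure (hx.conj g)
  | one => simp
  | mul a b _ _ ha hb =>
    rw [show g * (a * b) * g⁻¹ = g * a * g⁻¹ * (g * b * g⁻¹) by group]
    exact mul_mem ha hb
  | inv a _ ha =>
    rw [show g * a⁻¹ * g⁻¹ = (g * a * g⁻¹)⁻¹ by group]
    exact inv_mem ha

/-- The group generated by the `p`-elements is abelian or irreducible. -/
theorem irreducible_pRes (hρ : Function.Injective ρ) (hp19 : 19 ≤ p)
    (hnc : ∃ a b : Subgroup.closure {x : G | PElem p x}, a * b ≠ b * a) :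
    (pRes ρ p).IsIrreducible := by
  by_contra hred
  have hIH : IH p 16 := fun m hm H _ _ σ hσ => good_all hp19 m (by omega) H σ hσ
  obtain ⟨a, b, hab⟩ := hnc
  obtain ⟨W, T, hT, -, -, hlt, -, hTc⟩ := exists_component (pRes ρ p) hIH le_rfl hp19
    (gen_closure fun x hx => hx) hred
    ⟨a, b, fun h => hab ((hρ.comp Subtype.val_injective) h)⟩
  simp only [NC, not_exists, not_and, not_not] at hTc
  let S : Subrepresentation ρ :=
    { toSubmodule :=
        { carrier := {v | ∀ a b : Subgroup.closure {x : G | PElem p x},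
            ρ ((a : G) * b) v = ρ ((b : G) * a) v}
          add_mem' := fun hv hw a b => by rw [map_add, map_add, hv, hw]
          zero_mem' := fun a b => by rw [map_zero, map_zero]
          smul_mem' := fun c v hv a b => by rw [map_smul, map_smul, hv] }
      apply_mem_toSubmodule := fun g v hv a b => by
        have h := hv ⟨_, conj_mem_closure a.2 g⁻¹⟩ ⟨_, conj_mem_closure b.2 g⁻¹⟩
        show ρ ((a : G) * b) (ρ g v) = ρ ((b : G) * a) (ρ g v)
        rw [← Module.End.mul_apply, ← Module.End.mul_apply, ← map_mul, ← map_mul,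
          show (a : G) * b * g = g * (g⁻¹ * a * g⁻¹⁻¹ * (g⁻¹ * b * g⁻¹⁻¹)) by group,
          show (b : G) * a * g = g * (g⁻¹ * b * g⁻¹⁻¹ * (g⁻¹ * a * g⁻¹⁻¹)) by group,
          map_mul ρ g, map_mul ρ g, Module.End.mul_apply, Module.End.mul_apply, h] }
  have hTle : T.toSubmodule ≤ S.toSubmodule := fun v hv a b => hTc a b v hv
  rcases eq_bot_or_eq_top S with h | h
  · have hTbot : T.toSubmodule = ⊥ := eq_bot_iff.2
      (hTle.trans_eq (congrArg Subrepresentation.toSubmodule h))
    have := Submodule.finrank_add_eq_of_isCompl hT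
    rw [hTbot, finrank_bot, Module.finrank_fin_fun] at this
    omega
  · refine hab (Subtype.ext (hρ (LinearMap.ext fun v => ?_)))
    have hv : v ∈ S.toSubmodule := by rw [h]; exact Submodule.mem_top
    exact hv a b

variable {ρ}

/-- The scaled group is critical. -/
theorem exists_lin16 [(pRes ρ p).IsIrreducible] [Fintype (Sc p (pRes ρ p))] (hp19 : 19 ≤ p)
    [(scRep p (pRes ρ p)).IsIrreducible] :
    ∃ (L : Local p (Sc p (pRes ρ p))) (u : Sc p (pRes ρ p)),
      Lin16 (scRep p (pRes ρ p)) L u := by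
  classical
  have hgen : Gen p (Sc p (pRes ρ p)) := gen_sc
  have hcore := core_sc_eq_bot (σ := pRes ρ p) (by norm_num : 0 < 16) (by omega)
    (gen_closure fun x hx => hx)
  have hIH : IH p 16 := fun m hm H _ _ σ hσ => good_all hp19 m (by omega) H σ hσ
  have hsq : ¬ p ^ 2 ∣ Nat.card (Sc p (pRes ρ p)) := fun h => by
    obtain ⟨Q, hQ⟩ := Sylow.exists_subgroup_card_pow_prime p h
    obtain ⟨P, hP⟩ := (IsPGroup.of_card hQ).exists_le_sylow
    have h1 := (Subgroup.card_le_of_le hP).trans
      (card_le_p (ρ := scRep p (pRes ρ p)) scRep_injective hIH le_rfl hp19 hgen hcore P)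
    rw [hQ] at h1
    exact absurd h1 (not_le.2 (lt_self_pow₀ hp.out.one_lt (by norm_num)))
  have hdiv : p ∣ Nat.card (Sc p (pRes ρ p)) := by
    by_contra hnd
    have hall : ∀ x : Sc p (pRes ρ p), x = 1 := fun x => by
      have := hgen.eq_top (M := (⊥ : Subgroup (Sc p (pRes ρ p)))) fun y hy => Subgroup.mem_bot.2 (by
        obtain ⟨k, hk⟩ := hy
        exact orderOf_eq_one_iff.1 (Nat.eq_one_of_dvd_coprimes
          ((hp.out.coprime_iff_not_dvd.2 hnd).pow_left k) (orderOf_dvd_of_pow_eq_one hk)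
          (orderOf_dvd_natCard y)))
      exact Subgroup.mem_bot.1 (this.ge (Subgroup.mem_top x))
    haveI : IsMulCommutative (Sc p (pRes ρ p)) := ⟨⟨fun a b => by rw [hall a, hall b]⟩⟩
    have := Representation.IsIrreducible.finrank_eq_one_of_isMulCommutative (scRep p (pRes ρ p))
    rw [Module.finrank_fin_fun] at this
    norm_num at this
  obtain ⟨u, hu⟩ := exists_prime_orderOf_dvd_card' (G := Sc p (pRes ρ p)) p hdiv
  obtain ⟨P, hP⟩ := (PElem.of_pow_p (p := p) (hu ▸ pow_orderOf_eq_one u)).exists_sylow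
  obtain ⟨L, rfl⟩ := exists_local hdiv hsq P
  exact ⟨L, u, scRep_injective, hsq, hgen, hcore, hP, fun h => by
    rw [h, orderOf_one] at hu; exact hp.out.ne_one hu.symm, hp19⟩

omit [ρ.IsIrreducible] in
/-- Conjugation by the group. -/
theorem exists_conj (hd : 0 < 16) (g : G) (a : Sc p (pRes ρ p)) :
    ∃ a' : Sc p (pRes ρ p), scRep p (pRes ρ p) a' * ρ g = ρ g * scRep p (pRes ρ p) a := by
  obtain ⟨U, hU⟩ := a
  induction hU using Subgroup.closure_induction with
  | mem U hU =>
    obtain ⟨x, c, hx, hc, he, hdet⟩ := hU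
    have hc0 : c ≠ 0 := by
      obtain ⟨k, hk⟩ := hc
      intro h0
      rw [h0, zero_pow (pow_ne_zero k hp.out.ne_zero)] at hk
      exact zero_ne_one hk
    obtain ⟨y, hy⟩ : ∃ y : Subgroup.closure {x : G | PElem p x}, (y : G) = g * x * g⁻¹ :=
      ⟨⟨_, conj_mem_closure x.2 g⟩, rfl⟩
    have hy2 : PElem p y := by
      obtain ⟨k, hk⟩ := hx
      refine ⟨k, Subtype.ext ?_⟩
      rw [SubmonoidClass.coe_pow, hy, conj_pow, ← SubmonoidClass.coe_pow, hk]
      simp
    let V : (Module.End ℂ (Fin 16 → ℂ))ˣ := (ρ.toHomUnits g) * U * (ρ.toHomUnits g)⁻¹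
    have hV : (V : Module.End ℂ (Fin 16 → ℂ)) = c • pRes ρ p y := by
      show ρ g * (U : Module.End ℂ (Fin 16 → ℂ)) * ρ g⁻¹ = c • ρ (y : G)
      rw [he, mul_smul_comm, smul_mul_assoc, hy, map_mul, map_mul]
      rfl
    refine ⟨⟨V, Subgroup.subset_closure ⟨y, c, hy2, hc, hV, ?_⟩⟩, ?_⟩
    · show LinearMap.det (ρ g * (U : Module.End ℂ (Fin 16 → ℂ)) * ρ g⁻¹) = 1
      rw [map_mul, map_mul, hdet, mul_one, ← map_mul, ← map_mul, mul_inv_cancel, map_one, map_one]
    · show ρ g * (U : Module.End ℂ (Fin 16 → ℂ)) * ρ g⁻¹ * ρ g = ρ g * U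
      rw [mul_assoc (_ * _), ← map_mul, inv_mul_cancel, map_one, mul_one]
  | one => exact ⟨1, by simp [scRep]⟩
  | mul a b ha' hb' ha hb =>
    obtain ⟨a', ha⟩ := ha
    obtain ⟨b', hb⟩ := hb
    refine ⟨a' * b', ?_⟩
    rw [map_mul, mul_assoc, hb, ← mul_assoc, ha, mul_assoc, ← map_mul]
    rfl
  | inv a ha' ha =>
    obtain ⟨a', ha⟩ := ha
    refine ⟨a'⁻¹, ?_⟩
    have h1 : ∀ b : Sc p (pRes ρ p), scRep p (pRes ρ p) b⁻¹ * scRep p (pRes ρ p) b = 1 ∧
        scRep p (pRes ρ p) b * scRep p (pRes ρ p) b⁻¹ = 1 := fun b => by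
      rw [← map_mul, ← map_mul, inv_mul_cancel, mul_inv_cancel, map_one]
      exact ⟨rfl, rfl⟩
    calc scRep p (pRes ρ p) a'⁻¹ * ρ g
        = scRep p (pRes ρ p) a'⁻¹ * (ρ g * (scRep p (pRes ρ p) ⟨a, ha'⟩ *
            scRep p (pRes ρ p) (⟨a, ha'⟩ : Sc p (pRes ρ p))⁻¹)) := by rw [(h1 _).2, mul_one]
      _ = _ := by rw [← mul_assoc (ρ g), ← ha, ← mul_assoc, ← mul_assoc, (h1 a').1, one_mul]; rfl

/-- The quotient by the centre is that of the scaled group. -/
theorem nonempty_center_equiv [(pRes ρ p).IsIrreducible] (hρ : Function.Injective ρ) (hdp : 16 < p)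
    [(scRep p (pRes ρ p)).IsIrreducible]
    (hsurj : ∀ g : G, ∃ (h : Subgroup.closure {x : G | PElem p x}),
      (h : G) * g ∈ Subgroup.center G) :
    Nonempty ((G ⧸ Subgroup.center G) ≃*
      (Sc p (pRes ρ p) ⧸ Subgroup.center (Sc p (pRes ρ p)))) := by
  classical
  choose h c hc he using fun a : Sc p (pRes ρ p) => exists_lift a
  have hscal : ∀ (x : G) (t : ℂ), ρ x = t • 1 → x ∈ Subgroup.center G := fun x t hx =>
    Subgroup.mem_center_iff.2 fun y => hρ (by
      rw [map_mul, map_mul, hx, mul_smul_comm, smul_mul_assoc, mul_one, one_mul])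
  have huniq : ∀ (x y : G) (s t : ℂ), s ≠ 0 → t ≠ 0 → s • ρ x = t • ρ y →
      (x : G ⧸ Subgroup.center G) = y := fun x y s t hs ht hxy => by
    rw [QuotientGroup.eq]
    refine hscal _ (t⁻¹ * s) ?_
    have h1 : ρ y = (t⁻¹ * s) • ρ x := by
      rw [← smul_smul, hxy, smul_smul, inv_mul_cancel₀ ht, one_smul]
    rw [map_mul, h1, mul_smul_comm, ← map_mul, inv_mul_cancel, map_one]
  let f : Sc p (pRes ρ p) →* G ⧸ Subgroup.center G :=
    MonoidHom.mk' (fun a => ((h a : G) : G ⧸ Subgroup.center G)) fun a b => by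
      rw [← QuotientGroup.mk_mul]
      refine huniq _ _ (c (a * b)) (c a * c b) (hc _) (mul_ne_zero (hc a) (hc b)) ?_
      show c (a * b) • pRes ρ p (h (a * b)) = (c a * c b) • ρ ((h a : G) * h b)
      rw [← he, map_mul, he, he, smul_mul_smul_comm, map_mul ρ]
      rfl
  have hker : f.ker = Subgroup.center (Sc p (pRes ρ p)) := by
    refine le_antisymm (fun a ha => ?_) fun a ha => ?_
    · have hz : (h a : G) ∈ Subgroup.center G := (QuotientGroup.eq_one_iff _).1 ha
      obtain ⟨t, ht⟩ := central_scalar ρ hz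
      refine Subgroup.mem_center_iff.2 fun b => scRep_injective ?_
      rw [map_mul, map_mul, he a, show pRes ρ p (h a) = t • (LinearMap.id) from ht]
      ext v
      simp [Module.End.mul_apply]
    · obtain ⟨t, ht⟩ := central_scalar (scRep p (pRes ρ p)) ha
      rw [MonoidHom.mem_ker]
      refine (QuotientGroup.eq_one_iff _).2 (hscal _ ((c a)⁻¹ * t) ?_)
      show pRes ρ p (h a) = _
      rw [← smul_smul, show (1 : Module.End ℂ (Fin 16 → ℂ)) = LinearMap.id from rfl, ← ht, he,
        smul_smul, inv_mul_cancel₀ (hc a), one_smul]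
  have hrange : Function.Surjective f := by
    intro q
    obtain ⟨g, rfl⟩ := QuotientGroup.mk_surjective q
    have hle : ∀ x : Subgroup.closure {x : G | PElem p x},
        ((x : G) : G ⧸ Subgroup.center G) ∈ f.range := by
      rintro ⟨x, hx⟩
      induction hx using Subgroup.closure_induction with
      | mem x hx =>
        obtain ⟨a, t, ⟨k, hk⟩, ha, -⟩ := exists_scaled (p := p) (σ := pRes ρ p) (by norm_num : 0 < 16)
          hdp
          (x := ⟨x, Subgroup.subset_closure hx⟩) (by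
            obtain ⟨j, hj⟩ := hx; exact ⟨j, Subtype.ext (by simpa using hj)⟩)
        refine ⟨a, huniq _ _ (c a) t (hc a) (fun h0 => ?_) ((he a).symm.trans ha)⟩
        rw [h0, zero_pow (pow_ne_zero k hp.out.ne_zero)] at hk
        exact zero_ne_one hk
      | one => exact ⟨1, map_one f⟩
      | mul a b _ _ ha hb =>
        show ((a * b : G) : G ⧸ Subgroup.center G) ∈ f.range
        rw [QuotientGroup.mk_mul]
        exact mul_mem ha hb
      | inv a _ ha =>
        show ((a⁻¹ : G) : G ⧸ Subgroup.center G) ∈ f.range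
        rw [QuotientGroup.mk_inv]
        exact inv_mem ha
    obtain ⟨x, hx⟩ := hsurj g
    obtain ⟨a, ha⟩ := hle x⁻¹
    refine ⟨a, ha.trans (QuotientGroup.eq.2 ?_)⟩
    simpa using hx
  exact ⟨((QuotientGroup.quotientMulEquivOfEq hker.symm).trans
    (QuotientGroup.quotientKerEquivOfSurjective f hrange)).symm⟩

end CfsgLib.DegreeSixteen
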