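import Cfsg.Agent.SmallDegreeP.Main
import Cfsg.Agent.DegreeSixteen.Basic

/-!
# Reduction modulo `p` of a linear group with a Sylow subgroup of order `p`

The hypotheses of `CfsgLib.SmallDegreeP.Setting` without a bound on the degree, the bound on the orbit
of eigenvalues, and the triviality of invariant idempotents under a nilpotency condition.
-/

set_option autoImplicit false
set_option linter.style.haveILetI false
set_option linter.unusedSectionVars false

namespace CfsgLib.DegreeSixteen

open CfsgLib.SmallDegreeP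
open scoped BigOperators

variable {p : ℕ} [Fact p.Prime] {G : Type*} [Group G] [Fintype G]

/-- The standing hypotheses. -/
structure Ctx (p : ℕ) [Fact p.Prime] (G : Type*) [Group G] [Fintype G] (n : ℕ) where
  /-- The valuation ring. -/
  B : ValuationSubring ℂ
  p_mem : (p : B) ∈ IsLocalRing.maximalIdeal B
  /-- The integral representation. -/
  σ : G →* Matrix (Fin n) (Fin n) B
  inj : Function.Injective σ
  schur : ∀ A : Matrix (Fin n) (Fin n) ℂ,
    (∀ g, inclMat B (σ g) * A = A * inclMat B (σ g)) → ∃ a : ℂ, A = a • 1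
  /-- The element of order `p`. -/
  u : G
  pow_u : u ^ p = 1
  ne_one : u ≠ 1
  /-- Its normalizer. -/
  N : Subgroup G
  mem_N : ∀ g, g ∈ N ↔ ∃ a : (ZMod p)ˣ, g * u * g⁻¹ = upow u (a : ZMod p)
  semi : ∀ g, g⁻¹ * u * g ∈ N → g ∈ N
  gen : Subgroup.normalClosure {u} = ⊤
  opr : ∀ H : Subgroup G, H.Normal → IsPGroup p H → H = ⊥
  pos : 0 < n

namespace Ctx

variable {n : ℕ} (S : Ctx p G n)

/-- The complex representation. -/
noncomputable def rep : G →* Matrix (Fin n) (Fin n) ℂ := (inclMat S.B).toMonoidHom.comp S.σ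

/-- The reduced representation. -/
noncomputable def red : G →* Matrix (Fin n) (Fin n) (IsLocalRing.ResidueField S.B) :=
  (redMat S.B).toMonoidHom.comp S.σ

theorem rep_apply (g : G) : S.rep g = inclMat S.B (S.σ g) := rfl

theorem red_apply (g : G) : S.red g = redMat S.B (S.σ g) := rfl

theorem rep_injective : Function.Injective S.rep := (inclMat_injective S.B).comp S.inj

theorem charP : CharP (IsLocalRing.ResidueField S.B) p := by
  refine (CharP.charP_iff_prime_eq_zero Fact.out).2 ?_
  rw [← map_natCast (IsLocalRing.residue S.B), IsLocalRing.residue_eq_zero_iff]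
  exact S.p_mem

theorem red_injective : Function.Injective S.red := by
  haveI := S.charP
  rw [← MonoidHom.ker_eq_bot_iff]
  refine S.opr _ (MonoidHom.normal_ker _) fun x => ?_
  obtain ⟨k, hk⟩ : ∃ k, orderOf x = p ^ k := by
    refine ⟨_, Nat.eq_prime_pow_of_unique_prime_dvd (orderOf_pos x).ne' fun {q} hq hqd => ?_⟩
    by_contra hqp
    obtain ⟨m, hm⟩ := hqd
    have hx : S.red (x : G) = 1 := x.2
    have h1 : S.σ ((x : G) ^ m) = 1 := by
      refine eq_one_of_prime_pow S.B (CharP.cast_eq_zero _ p) hq Fact.out hqp _ ?_ ?_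
      · rw [← map_pow, ← pow_mul, mul_comm, ← hm, Subgroup.orderOf_coe x |>.symm, pow_orderOf_eq_one,
          map_one]
      · show S.red ((x : G) ^ m) = 1
        rw [map_pow, hx, one_pow]
    have h2 : x ^ m = 1 := Subtype.ext (S.inj (h1.trans (map_one _).symm))
    have h3 := Nat.le_of_dvd (Nat.pos_of_ne_zero fun h => by
      rw [h, mul_zero] at hm; exact (orderOf_pos x).ne' hm) (orderOf_dvd_of_pow_eq_one h2)
    rw [hm] at h3
    have h4 : 0 < m := Nat.pos_of_ne_zero fun h => by
      rw [h, mul_zero] at hm; exact (orderOf_pos x).ne' hm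
    have := hq.two_le
    nlinarith
  exact ⟨k, hk ▸ pow_orderOf_eq_one x⟩

theorem u_mem : S.u ∈ S.N := (S.mem_N _).2 ⟨1, by simp [upow_one]⟩

/-- The element is not central. -/
theorem not_central : ¬ ∀ g : G, g * S.u = S.u * g := by
  intro h
  have hn : (Subgroup.zpowers S.u).Normal := ⟨fun x hx g => by
    obtain ⟨z, rfl⟩ := Subgroup.mem_zpowers_iff.1 hx
    have hc : Commute g (S.u ^ z) := (show Commute g S.u from h g).zpow_right z
    rw [hc.eq, mul_inv_cancel_right]
    exact hx⟩
  have hp : IsPGroup p (Subgroup.zpowers S.u) := by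
    rw [IsPGroup.iff_card]
    exact ⟨1, by rw [Nat.card_zpowers, orderOf_eq_prime S.pow_u S.ne_one, pow_one]⟩
  have := S.opr _ hn hp
  rw [Subgroup.zpowers_eq_bot] at this
  exact S.ne_one this

/-- The exponents of conjugation. -/
noncomputable abbrev auts : Subgroup (ZMod p)ˣ := SmallDegreeP.auts S.u S.pow_u

theorem exists_exponent {h : G} (hh : h ∈ S.N) :
    ∃ a ∈ S.auts, h * S.u * h⁻¹ = upow S.u ((a : (ZMod p)ˣ) : ZMod p) :=
  let ⟨a, ha⟩ := (S.mem_N h).1 hh
  ⟨a, ⟨h, ha⟩, ha⟩

/-- A weighted sum of the projections of an orbit. -/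
noncomputable def orbSum (w : S.auts →* ℂˣ) (l0 : ZMod p) : Matrix (Fin n) (Fin n) ℂ :=
  letI := Fintype.ofFinite S.auts
  ∑ a : S.auts, (w a : ℂ) • proj S.rep S.u (((a : (ZMod p)ˣ) : ZMod p) * l0)

theorem orbSum_eq [Fintype S.auts] (w : S.auts →* ℂˣ) (l0 : ZMod p) : S.orbSum w l0 =
    ∑ a : S.auts, (w a : ℂ) • proj S.rep S.u (((a : (ZMod p)ˣ) : ZMod p) * l0) := by
  unfold orbSum
  congr 1
  · exact Finset.ext fun x => by simp

theorem conj_orbSum (w : S.auts →* ℂˣ) (l0 : ZMod p) {h : G} {b : S.auts}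
    (hb : h * S.u * h⁻¹ = upow S.u (((b : S.auts) : (ZMod p)ˣ) : ZMod p)) :
    S.rep h * S.orbSum w l0 * S.rep h⁻¹ = (w b : ℂ) • S.orbSum w l0 := by
  letI := Fintype.ofFinite S.auts
  rw [orbSum_eq, Finset.mul_sum, Finset.sum_mul, Finset.smul_sum]
  refine Fintype.sum_equiv (Equiv.mulLeft b⁻¹) _ _ fun a => ?_
  rw [mul_smul_comm, smul_mul_assoc, conj_proj S.rep S.u S.pow_u hb, smul_smul,
    Equiv.coe_mulLeft, ← Units.val_mul (w b), ← map_mul w, mul_inv_cancel_left, ← mul_assoc,
    ← Units.val_mul]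
  rfl

theorem proj_mul_orbSum (w : S.auts →* ℂˣ) {l0 : ZMod p} (h0 : l0 ≠ 0) :
    proj S.rep S.u l0 * S.orbSum w l0 = proj S.rep S.u l0 := by
  letI := Fintype.ofFinite S.auts
  rw [orbSum_eq, Finset.mul_sum, Finset.sum_eq_single 1]
  · rw [mul_smul_comm, OneMemClass.coe_one, Units.val_one, one_mul, proj_mul _ _ S.pow_u, if_pos rfl,
      map_one, Units.val_one, one_smul]
  · intro a _ ha
    rw [mul_smul_comm, proj_mul _ _ S.pow_u, if_neg, smul_zero]
    intro e
    exact ha (Subtype.ext (Units.ext (mul_right_cancel₀ h0 (by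
      rw [OneMemClass.coe_one, Units.val_one, one_mul, ← e]))))
  · simp

theorem proj_conj_ne_zero {l0 : ZMod p} (h : proj S.rep S.u l0 ≠ 0) {a : (ZMod p)ˣ}
    (ha : a ∈ S.auts) : proj S.rep S.u ((a : ZMod p) * l0) ≠ 0 := by
  obtain ⟨g, hg⟩ := ha
  intro h0
  have h1 := conj_proj S.rep S.u S.pow_u hg ((a : ZMod p) * l0)
  rw [h0, mul_zero, zero_mul, ← mul_assoc, Units.inv_mul, one_mul] at h1
  exact h h1.symm

theorem red_sub_one_pow_dim : (S.red S.u - 1) ^ n = 0 := by
  haveI := S.charP
  haveI : Nonempty (Fin n) := ⟨⟨0, S.pos⟩⟩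
  have hnil : IsNilpotent (S.red S.u - 1) := ⟨p, by
    rw [sub_pow_char_of_commute p (Commute.one_right _), ← map_pow, S.pow_u, map_one, one_pow,
      sub_self]⟩
  have h1 := (Matrix.isNilpotent_charpoly_sub_pow_of_isNilpotent hnil).eq_zero
  rw [Fintype.card_fin, sub_eq_zero] at h1
  have h2 := Matrix.aeval_self_charpoly (S.red S.u - 1)
  rwa [h1, map_pow, Polynomial.aeval_X] at h2

variable {l0 : ZMod p}

theorem eq_mul_of_proj_ne_zero (hO : S.orbSum 1 l0 = 1) {m : ZMod p}
    (hm : proj S.rep S.u m ≠ 0) : ∃ a ∈ S.auts, m = ((a : (ZMod p)ˣ) : ZMod p) * l0 := by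
  letI := Fintype.ofFinite S.auts
  by_contra hcon
  push Not at hcon
  refine hm ?_
  rw [← mul_one (proj S.rep S.u m), ← hO, orbSum_eq, Finset.mul_sum]
  refine Finset.sum_eq_zero fun a _ => ?_
  rw [mul_smul_comm, proj_mul _ _ S.pow_u, if_neg (hcon _ a.2), smul_zero]

theorem card_auts_le (h0 : l0 ≠ 0) (hp0 : proj S.rep S.u l0 ≠ 0) : Nat.card S.auts ≤ n := by
  classical
  letI := Fintype.ofFinite S.auts
  have h := card_le S.rep S.u S.pow_u
    (Finset.univ.image fun a : S.auts => ((a : (ZMod p)ˣ) : ZMod p) * l0) (by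
      intro l hl
      obtain ⟨a, -, rfl⟩ := Finset.mem_image.1 hl
      exact S.proj_conj_ne_zero hp0 a.2)
  rwa [Finset.card_image_of_injective _ (fun a b e =>
      Subtype.ext (Units.ext (mul_right_cancel₀ h0 e))), Fintype.card_fin, Finset.card_univ,
    ← Nat.card_eq_fintype_card] at h

theorem one_lt_card_auts (hO : S.orbSum 1 l0 = 1) : 1 < Nat.card S.auts := by
  by_contra hle
  haveI : Subsingleton S.auts := Finite.card_le_one_iff_subsingleton.1 (not_lt.1 hle)
  letI := Fintype.ofFinite S.auts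
  rw [orbSum_eq, Fintype.sum_subsingleton _ (1 : S.auts)] at hO
  simp only [MonoidHom.one_apply, Units.val_one, one_smul, OneMemClass.coe_one, one_mul] at hO
  refine S.not_central fun g => S.rep_injective ?_
  have h : S.rep S.u = (ZMod.stdAddChar (1 * l0) : ℂ) • (1 : Matrix (Fin n) (Fin n) ℂ) := by
    have h' := rho_mul_proj S.rep S.u S.pow_u 1 l0
    rwa [upow_one, hO, mul_one] at h'
  rw [map_mul, map_mul, h]
  simp

theorem red_sub_one_pow (hO : S.orbSum 1 l0 = 1) : (S.red S.u - 1) ^ Nat.card S.auts = 0 := by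
  classical
  haveI := S.charP
  letI := Fintype.ofFinite S.auts
  have hmem : ∀ l : ZMod p, (ZMod.stdAddChar l : ℂ) ∈ S.B := fun l =>
    mem_of_pow_eq_one S.B (Fact.out : p.Prime).ne_zero (by
      rw [← AddChar.map_nsmul_eq_pow, nsmul_eq_mul, ZMod.natCast_self, zero_mul,
        AddChar.map_zero_eq_one])
  have hres : ∀ l : ZMod p, IsLocalRing.residue S.B ⟨_, hmem l⟩ = 1 := by
    intro l
    refine eq_one_of_pow_p ?_
    rw [← map_pow, ← map_one (IsLocalRing.residue S.B)]
    congr 1
    refine Subtype.ext ?_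
    show (ZMod.stdAddChar l : ℂ) ^ p = 1
    rw [← AddChar.map_nsmul_eq_pow, nsmul_eq_mul, ZMod.natCast_self, zero_mul,
      AddChar.map_zero_eq_one]
  have hmul : ∀ l m : ZMod p,
      inclMat S.B (S.σ S.u - (⟨_, hmem l⟩ : S.B) • 1) * proj S.rep S.u m =
        ((ZMod.stdAddChar m : ℂ) - ZMod.stdAddChar l) • proj S.rep S.u m := by
    intro l m
    have h := rho_mul_proj S.rep S.u S.pow_u 1 m
    rw [upow_one, one_mul] at h
    rw [map_sub, inclMat_smul, map_one, ← rep_apply, sub_mul, h, smul_mul_assoc, one_mul, sub_smul]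
  have key : ∀ s : Finset (ZMod p), ∃ Z : Matrix (Fin n) (Fin n) S.B,
      (∀ m ∈ s, inclMat S.B Z * proj S.rep S.u m = 0) ∧ redMat S.B Z = (S.red S.u - 1) ^ s.card := by
    intro s
    induction s using Finset.induction with
    | empty => exact ⟨1, by simp, by simp⟩
    | insert a s ha ih =>
      obtain ⟨Z, hZ, hZr⟩ := ih
      refine ⟨Z * (S.σ S.u - (⟨_, hmem a⟩ : S.B) • 1), fun m hm => ?_, ?_⟩
      · rw [map_mul, mul_assoc, hmul, mul_smul_comm]
        rcases Finset.mem_insert.1 hm with rfl | hm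
        · rw [sub_self, zero_smul]
        · rw [hZ m hm, smul_zero]
      · rw [map_mul, map_sub, redMat_smul, hres, one_smul, map_one, hZr, ← red_apply,
          Finset.card_insert_of_notMem ha, pow_succ]
  obtain ⟨Z, hZ, hZr⟩ := key (Finset.univ.image fun a : S.auts => ((a : (ZMod p)ˣ) : ZMod p) * l0)
  have hZ0 : Z = 0 := inclMat_injective S.B (by
    rw [map_zero, ← mul_one (inclMat S.B Z), ← hO, orbSum_eq, Finset.mul_sum]
    refine Finset.sum_eq_zero fun a _ => ?_
    rw [mul_smul_comm, hZ _ (Finset.mem_image.2 ⟨a, Finset.mem_univ _, rfl⟩), smul_zero])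
  rw [hZ0, map_zero] at hZr
  refine pow_eq_zero_of_le ?_ hZr.symm
  rw [Nat.card_eq_fintype_card]
  exact Finset.card_image_le.trans_eq Finset.card_univ

/-- The orbit has more than `(p + 2) / 4` members. -/
theorem lt_four_mul_card (hl0 : l0 ≠ 0) (hp0 : proj S.rep S.u l0 ≠ 0) (hO : S.orbSum 1 l0 = 1) :
    p + 2 < 4 * Nat.card S.auts := by
  classical
  by_contra hle
  haveI := S.charP
  letI := Fintype.ofFinite S.auts
  have hf := S.one_lt_card_auts hO
  haveI : Nontrivial (S.auts →* ℂˣ) := by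
    haveI : NeZero (Monoid.exponent S.auts) := ⟨Monoid.exponent_ne_zero_of_finite⟩
    haveI : Nontrivial S.auts := Finite.one_lt_card_iff_nontrivial.1 hf
    obtain ⟨a, ha⟩ := exists_ne (1 : S.auts)
    obtain ⟨w, hw⟩ := CommGroup.exists_apply_ne_one_of_hasEnoughRootsOfUnity S.auts ℂ ha
    exact ⟨⟨w, 1, fun h => hw (by rw [h]; rfl)⟩⟩
  obtain ⟨w, hw⟩ := exists_ne (1 : S.auts →* ℂˣ)
  obtain ⟨b, hb⟩ : ∃ b : S.auts, w b ≠ 1 := by
    by_contra h
    push Not at h
    exact hw (MonoidHom.ext h)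
  have hne : ∀ x : S.auts →* ℂˣ, S.orbSum x l0 ≠ 0 := fun x h => hp0 (by
    rw [← S.proj_mul_orbSum x hl0, h, mul_zero])
  obtain ⟨c₁, R, hc₁, hR, hR0⟩ := exists_scale S.B (hne w)
  obtain ⟨c₂, R', hc₂, hR', hR0'⟩ := exists_scale S.B (hne w⁻¹)
  have hval : ∀ a : S.auts, (w a : ℂ) ^ Nat.card S.auts = 1 := fun a => by
    rw [← Units.val_pow_eq_pow_val, ← map_pow, pow_card_eq_one', map_one, Units.val_one]
  have hwmem : ∀ a : S.auts, (w a : ℂ) ∈ S.B := fun a =>
    mem_of_pow_eq_one S.B (by omega) (hval a)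
  let wr : S.auts → IsLocalRing.ResidueField S.B := fun a => IsLocalRing.residue S.B ⟨_, hwmem a⟩
  have hwmul : ∀ a : S.auts, wr a⁻¹ * wr a = 1 := fun a => by
    rw [← map_mul, ← map_one (IsLocalRing.residue S.B)]
    congr 1
    refine Subtype.ext ?_
    show (w a⁻¹ : ℂ) * (w a : ℂ) = 1
    rw [← Units.val_mul, ← map_mul, inv_mul_cancel, map_one, Units.val_one]
  set r := redMat S.B R with hr
  set r' := redMat S.B R' with hr'
  have hconj : ∀ (h : G) (a : S.auts),
      h * S.u * h⁻¹ = upow S.u (((a : S.auts) : (ZMod p)ˣ) : ZMod p) →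
      S.red h * r * S.red h⁻¹ = wr a • r ∧ S.red h * r' * S.red h⁻¹ = wr a⁻¹ • r' := by
    intro h a ha
    constructor
    · rw [hr, red_apply, red_apply, ← map_mul, ← map_mul, ← redMat_smul]
      congr 1
      apply inclMat_injective S.B
      rw [map_mul, map_mul, ← rep_apply, ← rep_apply, inclMat_smul, hR, mul_smul_comm, smul_mul_assoc,
        S.conj_orbSum w l0 ha, smul_comm]
    · rw [hr', red_apply, red_apply, ← map_mul, ← map_mul, ← redMat_smul]
      congr 1
      apply inclMat_injective S.B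
      rw [map_mul, map_mul, ← rep_apply, ← rep_apply, inclMat_smul, hR', mul_smul_comm,
        smul_mul_assoc, S.conj_orbSum w⁻¹ l0 ha, smul_comm, MonoidHom.inv_apply, ← map_inv w a]
  set Φ : Module.End (IsLocalRing.ResidueField S.B)
      (Matrix (Fin n) (Fin n) (IsLocalRing.ResidueField S.B)) :=
    ((Matrix.traceLinearMap (Fin n) (IsLocalRing.ResidueField S.B) _).comp
      (LinearMap.mulLeft _ r')).smulRight r with hΦ
  have hΦa : ∀ x, Φ x = Matrix.trace (r' * x) • r := fun x => rfl
  set A := adHom (k := IsLocalRing.ResidueField S.B) S.red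
  have hnil : (adHom (k := IsLocalRing.ResidueField S.B) A S.u - 1) ^ (p - 1) = 0 := by
    have h1 : (A S.u - 1) ^ (Nat.card S.auts + Nat.card S.auts - 1) = 0 :=
      adHom_sub_one_pow S.red S.u (S.red_sub_one_pow hO) (by omega)
    exact adHom_sub_one_pow A S.u h1 (by omega)
  haveI : Fintype (G ⧸ S.N) := Fintype.ofFinite _
  have hΦN : ∀ h ∈ S.N, adHom (k := IsLocalRing.ResidueField S.B) A h Φ = Φ := by
    intro h hh
    obtain ⟨a, ha, ha'⟩ := S.exists_exponent hh
    obtain ⟨h1, h2⟩ := hconj h ⟨a, ha⟩ ha'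
    refine LinearMap.ext fun x => ?_
    rw [adHom_apply]
    show A h (Φ (A h⁻¹ x)) = Φ x
    rw [hΦa, hΦa, map_smul, adHom_apply, inv_inv, show A h r = _ from (adHom_apply _ _ _).trans h1,
      smul_smul]
    congr 1
    have h3 : Matrix.trace (r' * (S.red h⁻¹ * x * S.red h)) =
        wr (⟨a, ha⟩ : S.auts)⁻¹ * Matrix.trace (r' * x) := by
      calc Matrix.trace (r' * (S.red h⁻¹ * x * S.red h))
          = Matrix.trace (r' * S.red h⁻¹ * x * S.red h) := by simp only [mul_assoc]
        _ = Matrix.trace (S.red h * r' * S.red h⁻¹ * x) := by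
            rw [Matrix.trace_mul_comm]; simp only [mul_assoc]
        _ = _ := by rw [h2, smul_mul_assoc, Matrix.trace_smul, smul_eq_mul]
    rw [h3, mul_right_comm, hwmul, one_mul]
  have hΦG : ∀ (g : G) (x : Matrix (Fin n) (Fin n) (IsLocalRing.ResidueField S.B)),
      A g (Φ x) = Φ (A g x) := by
    intro g x
    have h := fixed_of_fixed (adHom (k := IsLocalRing.ResidueField S.B) A) S.N S.u S.u_mem S.pow_u
      S.semi hnil Φ hΦN g
    have h' := LinearMap.congr_fun h (A g x)
    rw [adHom_apply] at h'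
    rw [← h']
    show A g (Φ x) = A g (Φ (A g⁻¹ (A g x)))
    rw [← Module.End.mul_apply (A g⁻¹), ← map_mul, inv_mul_cancel, map_one, Module.End.one_apply]
  obtain ⟨i, j, hij⟩ : ∃ i j, r' i j ≠ 0 := by
    by_contra h
    push Not at h
    exact hR0' (Matrix.ext h)
  set x0 : Matrix (Fin n) (Fin n) (IsLocalRing.ResidueField S.B) := Matrix.single j i 1 with hx0
  have ht : Matrix.trace (r' * x0) ≠ 0 := by
    rw [Matrix.trace_mul_single]
    simpa using hij
  have hline : ∀ g : G, ∃ μ : IsLocalRing.ResidueField S.B, A g r = μ • r := by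
    intro g
    refine ⟨(Matrix.trace (r' * x0))⁻¹ * Matrix.trace (r' * A g x0), ?_⟩
    have h := hΦG g x0
    rw [hΦa, hΦa, map_smul] at h
    rw [mul_smul, ← h, smul_smul, inv_mul_cancel₀ ht, one_smul]
  let Stab : Subgroup G :=
    { carrier := {g | A g r = r}
      one_mem' := by show A 1 r = r; rw [map_one]; rfl
      mul_mem' := fun {g h} hg hh => by
        show A (g * h) r = r
        rw [map_mul, Module.End.mul_apply, show A h r = r from hh, show A g r = r from hg]
      inv_mem' := fun {g} hg => by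
        show A g⁻¹ r = r
        conv_lhs => rw [← show A g r = r from hg]
        rw [← Module.End.mul_apply, ← map_mul, inv_mul_cancel, map_one, Module.End.one_apply] }
  have htop : Stab = ⊤ := by
    rw [eq_top_iff, ← S.gen, Subgroup.normalClosure]
    refine (Subgroup.closure_le _).2 fun x hx => ?_
    obtain ⟨g, hg, hgx⟩ := Group.mem_conjugatesOfSet_iff.1 hx
    rw [Set.mem_singleton_iff.1 hg, isConj_iff] at hgx
    obtain ⟨z, hz⟩ := hgx
    obtain ⟨μ, hμ⟩ := hline x
    have hμk : ∀ k : ℕ, A (x ^ k) r = μ ^ k • r := by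
      intro k
      induction k with
      | zero => rw [pow_zero, map_one, pow_zero, one_smul]; rfl
      | succ k ih => rw [pow_succ, map_mul, Module.End.mul_apply, hμ, map_smul, ih, smul_smul,
          ← pow_succ']
    have h1 := hμk p
    rw [← hz, conj_pow, S.pow_u, mul_one, mul_inv_cancel, map_one, Module.End.one_apply] at h1
    have h2 : μ = 1 := eq_one_of_pow_p (by
      by_contra h3
      have h4 : ((μ ^ p - 1) • r) = 0 := by rw [sub_smul, ← h1, one_smul, sub_self]
      exact hR0 ((smul_eq_zero.1 h4).resolve_left (sub_ne_zero.2 h3)))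
    show A x r = r
    rw [hμ, h2, one_smul]
  obtain ⟨h, hh⟩ := b.2
  have hfix : A h r = r := (show h ∈ Stab by rw [htop]; exact Subgroup.mem_top h)
  rw [adHom_apply, (hconj h b hh).1] at hfix
  have hwb : wr b = 1 := by
    by_contra h3
    have h4 : (wr b - 1) • r = 0 := by rw [sub_smul, hfix, one_smul, sub_self]
    exact hR0 ((smul_eq_zero.1 h4).resolve_left (sub_ne_zero.2 h3))
  set xb : S.B := ⟨_, hwmem b⟩
  have hx1 : xb ≠ 1 := fun e => hb (Units.ext (congrArg Subtype.val e))
  have hxf : xb ^ Nat.card S.auts = 1 := Subtype.ext (hval b)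
  have hsum : ∑ i ∈ Finset.range (Nat.card S.auts), xb ^ i = 0 := by
    refine (mul_eq_zero.1 (?_ : (xb - 1) * _ = 0)).resolve_left (sub_ne_zero.2 hx1)
    rw [mul_geom_sum, hxf, sub_self]
  have hzero := congrArg (IsLocalRing.residue S.B) hsum
  simp only [map_sum, map_pow, show IsLocalRing.residue S.B xb = 1 from hwb, one_pow, map_zero,
    Finset.sum_const, Finset.card_range, nsmul_eq_mul, mul_one] at hzero
  have hdvd := (CharP.cast_eq_zero_iff (IsLocalRing.ResidueField S.B) p _).1 hzero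
  have := Nat.le_of_dvd (by omega) hdvd
  omega

end Ctx

open CfsgLib.Characters in
/-- An integral idempotent fixed by the normalizer is trivial when `u - 1` is nilpotent of small
index. -/
theorem Ctx.idem_trivial {n : ℕ} (S : Ctx p G n) {s : ℕ} (hs : (S.red S.u - 1) ^ s = 0)
    (h2 : s + s ≤ p) (E : Matrix (Fin n) (Fin n) S.B) (hE : IsIdempotentElem E)
    (hfix : ∀ h ∈ S.N, S.σ h * E = E * S.σ h) : E = 0 ∨ E = 1 := by
  classical
  haveI := S.charP
  have hEfix : ∀ h ∈ S.N, S.σ h * E * S.σ h⁻¹ = E := fun h hh => by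
    rw [hfix h hh, mul_assoc, ← map_mul, mul_inv_cancel, map_one, mul_one]
  haveI : Fintype (G ⧸ S.N) := Fintype.ofFinite _
  set T : Matrix (Fin n) (Fin n) S.B := ∑ q : G ⧸ S.N, S.σ q.out * E * S.σ q.out⁻¹ with hT
  have hred : redMat S.B T = redMat S.B E := by
    have hnil : (adHom (k := IsLocalRing.ResidueField S.B) S.red S.u - 1) ^ (p - 1) = 0 :=
      adHom_sub_one_pow S.red S.u hs (by omega)
    have h := sum_cosets_eq (adHom (k := IsLocalRing.ResidueField S.B) S.red) S.N S.u S.u_mem S.pow_u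
      S.semi hnil (redMat S.B E) fun h hh => by
        rw [adHom_apply, Ctx.red_apply, Ctx.red_apply, ← map_mul, ← map_mul, hEfix h hh]
    rw [← h, hT, map_sum]
    simp only [adHom_apply, Ctx.red_apply, map_mul]
  have hinv : ∀ g, S.rep g * inclMat S.B T = inclMat S.B T * S.rep g := by
    intro g
    have h := sum_cosets_invariant (adHom (k := ℂ) S.rep) S.N (inclMat S.B E) (fun h hh => by
      rw [adHom_apply, Ctx.rep_apply, Ctx.rep_apply, ← map_mul, ← map_mul, hEfix h hh]) g
    have hT' : ∑ q : G ⧸ S.N, adHom (k := ℂ) S.rep q.out (inclMat S.B E) = inclMat S.B T := by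
      rw [hT, map_sum]
      simp only [adHom_apply, Ctx.rep_apply, map_mul]
    rw [hT', adHom_apply] at h
    conv_rhs => rw [← h]
    rw [mul_assoc (_ * _) (S.rep g⁻¹), ← map_mul, inv_mul_cancel, map_one, mul_one]
  obtain ⟨a, ha⟩ := S.schur _ hinv
  let i0 : Fin n := ⟨0, S.pos⟩
  have hTs : T = (T i0 i0) • 1 := by
    apply inclMat_injective S.B
    rw [inclMat_smul, map_one, ha]
    congr 1
    have := congrFun (congrFun ha i0) i0
    simpa [inclMat] using this.symm
  have hEr : redMat S.B E = IsLocalRing.residue S.B (T i0 i0) • 1 := by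
    rw [← hred, hTs, redMat_smul, map_one]
    simp
  have hsq : IsLocalRing.residue S.B (T i0 i0) * IsLocalRing.residue S.B (T i0 i0) =
      IsLocalRing.residue S.B (T i0 i0) := by
    have h1 := congrArg (redMat S.B) hE.eq
    rw [map_mul, hEr, smul_mul_smul_comm, mul_one] at h1
    have h2 := congrFun (congrFun h1 i0) i0
    simpa only [Matrix.smul_apply, Matrix.one_apply_eq, smul_eq_mul, mul_one] using h2
  rcases IsIdempotentElem.iff_eq_zero_or_one.1 hsq with h | h
  · refine Or.inl ?_
    have h1 : (1 : Matrix (Fin n) (Fin n) S.B) - E = 1 := eq_one_of_red_eq_one S.B hE.one_sub (by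
      rw [map_sub, map_one, hEr, h, zero_smul, sub_zero])
    simpa using h1
  · exact Or.inr (eq_one_of_red_eq_one S.B hE (by rw [hEr, h, one_smul]))

open CfsgLib.Characters in
/-- The hypotheses hold for an irreducible faithful representation, with the lattice of a larger
group. -/
theorem exists_ctx {n : ℕ} (ρ : Representation ℂ G (Fin n → ℂ)) [ρ.IsIrreducible]
    (hinj : Function.Injective ρ) (hsq : ¬ p ^ 2 ∣ Nat.card G) (hgen : Gen p G)
    (hcore : core p G = ⊥) {u : G} (hu : orderOf u = p) {W : Type*} [Group W] [Fintype W]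
    (R : W →* Matrix (Fin n) (Fin n) ℂ) (ι : G →* W)
    (hι : ∀ g, R (ι g) = LinearMap.toMatrixAlgEquiv' (ρ g)) :
    ∃ (S : Ctx p G n) (Q Q' : Matrix (Fin n) (Fin n) ℂ) (σW : W →* Matrix (Fin n) (Fin n) S.B),
      S.u = u ∧ S.σ = σW.comp ι ∧ Q * Q' = 1 ∧ Q' * Q = 1 ∧
      (∀ w, inclMat S.B (σW w) = Q' * R w * Q) ∧ ∀ g, Matrix.trace (S.rep g) = ρ.character g := by
  obtain ⟨B, hB⟩ := TILattice.exists_valuationSubring_p p
  obtain ⟨Q, Q', σW, hQQ', hQ'Q, hσ⟩ := exists_integral B R
  have hn : 0 < n := by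
    have := finrank_pos_of_isIrreducible ρ
    simpa using this
  have hback : ∀ M : Matrix (Fin n) (Fin n) ℂ, Q * (Q' * M * Q) * Q' = M := fun M => by
    rw [← mul_assoc Q, ← mul_assoc Q, hQQ', one_mul, mul_assoc, hQQ', mul_one]
  have hzu : ∀ g, g ∈ Subgroup.normalizer (Subgroup.zpowers u : Set G) ↔
      ∃ a : (ZMod p)ˣ, g * u * g⁻¹ = upow u (a : ZMod p) := fun g => by
    constructor
    · intro hg
      have hmem : g * u * g⁻¹ ∈ Subgroup.zpowers u :=
        (Subgroup.mem_normalizer_iff.1 hg u).1 (Subgroup.mem_zpowers u)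
      obtain ⟨z, hz⟩ := Subgroup.mem_zpowers_iff.1 hmem
      have hz' : upow u (z : ZMod p) = g * u * g⁻¹ := by
        rw [← hz, upow, ← zpow_natCast, ZMod.val_intCast]
        conv_rhs => rw [zpow_eq_zpow_emod z (show u ^ (p : ℤ) = 1 by
          rw [zpow_natCast, ← hu, pow_orderOf_eq_one])]
      refine ⟨Units.mk0 (z : ZMod p) fun h => ?_, hz'.symm⟩
      rw [h, upow_zero, eq_comm, conj_eq_one_iff] at hz'
      rw [hz', orderOf_one] at hu
      exact (Fact.out : p.Prime).ne_one hu.symm
    · rintro ⟨a, ha⟩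
      have hle : (Subgroup.zpowers u).map (MulAut.conj g).toMonoidHom ≤ Subgroup.zpowers u := by
        rw [MonoidHom.map_zpowers, Subgroup.zpowers_le]
        show g * u * g⁻¹ ∈ _
        rw [ha]
        exact pow_mem (Subgroup.mem_zpowers u) _
      rw [Subgroup.mem_normalizer_iff_map_conj_eq]
      exact Subgroup.eq_of_le_of_card_ge hle (by
        rw [Subgroup.card_map_of_injective (MulAut.conj g).injective])
  let S : Ctx p G n :=
    { B := B
      p_mem := hB
      σ := σW.comp ι
      inj := fun a b h => hinj ((LinearMap.toMatrixAlgEquiv' (R := ℂ) (n := Fin n)).injective (by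
        have h1 := congrArg (inclMat B) h
        rw [MonoidHom.comp_apply, MonoidHom.comp_apply, hσ, hσ] at h1
        rw [← hι, ← hι, ← hback (R (ι a)), h1, hback]))
      schur := fun A hA => by
        have hA' : ∀ g, R (ι g) * (Q * A * Q') = Q * A * Q' * R (ι g) := by
          intro g
          have h := hA g
          rw [MonoidHom.comp_apply, hσ] at h
          calc R (ι g) * (Q * A * Q') = Q * (Q' * R (ι g) * Q * A) * Q' := by
                simp only [← mul_assoc, hQQ', one_mul]
            _ = Q * (A * (Q' * R (ι g) * Q)) * Q' := by rw [h]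
            _ = Q * A * Q' * R (ι g) := by simp only [mul_assoc, hQQ', mul_one]
        obtain ⟨c, hc⟩ := schur_scalar ρ (Matrix.toLinAlgEquiv' (Q * A * Q')) fun g x => by
          have h := congrArg (Matrix.toLinAlgEquiv' (R := ℂ) (n := Fin n)) (hA' g)
          rw [map_mul _ (R (ι g)), map_mul _ (Q * A * Q') (R (ι g)), hι,
            Matrix.toLinAlgEquiv'_toMatrixAlgEquiv'] at h
          exact (LinearMap.congr_fun h x).symm
        refine ⟨c, ?_⟩
        have h2 : Q * A * Q' = c • 1 := Matrix.toLinAlgEquiv'.injective (by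
          rw [hc, map_smul, map_one]; rfl)
        calc A = Q' * (Q * A * Q') * Q := by
              rw [← mul_assoc Q', ← mul_assoc Q', hQ'Q, one_mul, mul_assoc, hQ'Q, mul_one]
          _ = c • 1 := by rw [h2, mul_smul_comm, mul_one, smul_mul_assoc, hQ'Q]
      u := u
      pow_u := hu ▸ pow_orderOf_eq_one u
      ne_one := fun h => by
        rw [h, orderOf_one] at hu
        exact (Fact.out : p.Prime).ne_one hu.symm
      N := Subgroup.normalizer (Subgroup.zpowers u : Set G)
      mem_N := hzu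
      semi := fun g hg => by
        have hord : orderOf (g⁻¹ * u * g) = p := by
          have := (MulAut.conj g⁻¹).orderOf_eq u
          simpa using this.trans hu
        have h := zpowers_eq_of_mem_normalizer hsq hord hu hg
        rw [← inv_mem_iff, Subgroup.mem_normalizer_iff_map_conj_eq, MonoidHom.map_zpowers]
        refine Eq.trans (congrArg Subgroup.zpowers ?_) h
        simp
      gen := hgen.eq_top fun x hx => by
        obtain ⟨P, hP⟩ := hx.exists_sylow
        obtain ⟨Q, hQ⟩ := (PElem.of_pow_p (p := p) (hu ▸ pow_orderOf_eq_one u)).exists_sylow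
        have hQe : (Q : Subgroup G) = Subgroup.zpowers u := (Subgroup.eq_of_le_of_card_ge
          (Subgroup.zpowers_le.2 hQ) (by
            rw [card_zpowers_of_orderOf hu, DefectOne.card_sylow_of_sq_not_dvd
              (hu ▸ orderOf_dvd_natCard u) hsq Q])).symm
        obtain ⟨g, rfl⟩ := MulAction.exists_smul_eq G Q P
        rw [Sylow.coe_subgroup_smul] at hP
        obtain ⟨w, hw, rfl⟩ := Subgroup.mem_map.1
          (show x ∈ (Q : Subgroup G).map (MulAut.conj g).toMonoidHom from hP)
        rw [hQe] at hw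
        exact Subgroup.normalClosure_normal.conj_mem w
          (Subgroup.zpowers_le.2 (Subgroup.subset_normalClosure (Set.mem_singleton u)) hw) g
      opr := fun H hH hp => eq_bot_iff.2 fun x hx => hcore ▸ le_core hp hx
      pos := hn }
  refine ⟨S, Q, Q', σW, rfl, rfl, hQQ', hQ'Q, hσ, fun g => ?_⟩
  rw [S.rep_apply, show S.σ g = σW (ι g) from rfl, hσ, Matrix.trace_mul_comm, ← mul_assoc, hQQ',
    one_mul, hι, ← Matrix.trace_toLin'_eq]
  exact congrArg (LinearMap.trace ℂ (Fin n → ℂ)) (Matrix.toLin'_toMatrix' (ρ g))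

end CfsgLib.DegreeSixteen
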