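import Cfsg.Agent.DegreeSixteen.Basic
import Mathlib.LinearAlgebra.Determinant
import Mathlib.RingTheory.RootsOfUnity.Basic

/-!
# Rescaling the `p`-elements of a linear group to determinant one

For a representation of degree prime to `p`, every `p`-element has exactly one multiple by a root of
unity of `p`-power order with determinant one.  These multiples generate a finite linear group with
the same invariant subspaces and no central `p`-elements when the representation is irreducible.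
-/

set_option autoImplicit false
set_option linter.style.haveILetI false
set_option linter.unusedSectionVars false

namespace CfsgLib.DegreeSixteen

open CfsgLib.Characters
open scoped commutatorElement

universe u

variable {p : ℕ} [hp : Fact p.Prime] {G : Type u} [Group G] [Finite G] {d : ℕ}

theorem coprime_of_lt (hd : 0 < d) (hdp : d < p) (k : ℕ) : Nat.Coprime d (p ^ k) :=
  Nat.Coprime.pow_right _ ((hp.out.coprime_iff_not_dvd.2 fun h =>
    absurd (Nat.le_of_dvd hd h) (not_le.2 hdp)).symm)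

theorem eq_one_of_root (hd : 0 < d) (hdp : d < p) {c : ℂ} {k : ℕ} (h : c ^ p ^ k = 1)
    (h' : c ^ d = 1) : c = 1 :=
  orderOf_eq_one_iff.1 (Nat.eq_one_of_dvd_coprimes (coprime_of_lt hd hdp k)
    (orderOf_dvd_of_pow_eq_one h') (orderOf_dvd_of_pow_eq_one h))

theorem det_smul_end (c : ℂ) (f : Module.End ℂ (Fin d → ℂ)) :
    LinearMap.det (c • f) = c ^ d * LinearMap.det f := by
  rw [LinearMap.det_smul, Module.finrank_fin_fun]

variable (p) (σ : Representation ℂ G (Fin d → ℂ))

/-- The determinant-one multiples of the `p`-elements. -/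
def scGens : Set (Module.End ℂ (Fin d → ℂ))ˣ :=
  {U | ∃ (x : G) (c : ℂ), PElem p x ∧ (∃ k, c ^ p ^ k = 1) ∧
    (U : Module.End ℂ (Fin d → ℂ)) = c • σ x ∧
    LinearMap.det (U : Module.End ℂ (Fin d → ℂ)) = 1}

/-- The group they generate. -/
abbrev Sc : Subgroup (Module.End ℂ (Fin d → ℂ))ˣ := Subgroup.closure (scGens p σ)

/-- Its natural representation. -/
noncomputable def scRep : Representation ℂ (Sc p σ) (Fin d → ℂ) :=
  (Units.coeHom _).comp (Sc p σ).subtype

/-- The action of the pairs of an element and a root of unity. -/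
noncomputable def pairHom : G × rootsOfUnity (Nat.card G) ℂ →* Module.End ℂ (Fin d → ℂ) where
  toFun w := (((w.2 : ℂˣ) : ℂ)) • σ w.1
  map_one' := by simp
  map_mul' w w' := by
    simp only [Prod.fst_mul, Prod.snd_mul, map_mul, Subgroup.coe_mul, Units.val_mul,
      smul_mul_smul_comm]

variable {p σ}

theorem scRep_injective : Function.Injective (scRep p σ) :=
  fun _ _ h => Subtype.ext (Units.ext h)

theorem root_pow_card (hd : 0 < d) (hdp : d < p) {x : G} {c : ℂ} {k : ℕ} (hc : c ^ p ^ k = 1)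
    (hdet : LinearMap.det (c • σ x) = 1) : c ^ Nat.card G = 1 := by
  rw [det_smul_end] at hdet
  have h1 : LinearMap.det (σ x) ^ Nat.card G = 1 := by
    rw [← map_pow, ← map_pow, pow_card_eq_one', map_one, map_one]
  have h2 : (c ^ Nat.card G) ^ d = 1 := by
    have h3 := congrArg (· ^ Nat.card G) hdet
    simp only [mul_pow, one_pow, h1, mul_one] at h3
    rwa [← pow_mul, mul_comm, pow_mul] at h3
  refine eq_one_of_root (p := p) hd hdp (k := k) ?_ h2
  rw [← pow_mul, mul_comm, pow_mul, hc, one_pow]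

theorem finite_sc (hd : 0 < d) (hdp : d < p) : Finite (Sc p σ) := by
  haveI : NeZero (Nat.card G) := ⟨Nat.card_pos.ne'⟩
  have hle : Sc p σ ≤ (MonoidHom.toHomUnits (pairHom σ)).range := by
    refine (Subgroup.closure_le _).2 ?_
    rintro U ⟨x, c, -, ⟨k, hk⟩, hU, hdet⟩
    have hc : c ^ Nat.card G = 1 := root_pow_card hd hdp hk (hU ▸ hdet)
    refine ⟨(x, rootsOfUnity.mkOfPowEq c hc), Units.ext ?_⟩
    rw [hU]
    show ((rootsOfUnity.mkOfPowEq c hc : ℂˣ) : ℂ) • σ x = c • σ x
    rw [rootsOfUnity.val_mkOfPowEq_coe]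
  haveI : Finite (G × rootsOfUnity (Nat.card G) ℂ) := inferInstance
  haveI : Finite (MonoidHom.toHomUnits (pairHom σ)).range :=
    Finite.of_surjective _ (MonoidHom.rangeRestrict_surjective _)
  exact Finite.of_injective _ (Subgroup.inclusion_injective hle)

theorem gen_sc : Gen p (Sc p σ) := by
  refine gen_closure ?_
  rintro U ⟨x, c, ⟨k, hk⟩, ⟨l, hl⟩, hU, -⟩
  refine ⟨k + l, Units.ext ?_⟩
  rw [Units.val_pow_eq_pow_val, hU, smul_pow, ← map_pow, pow_add, pow_mul x, hk, one_pow, map_one,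
    mul_comm, pow_mul, hl, one_pow, one_smul, Units.val_one]

theorem det_scRep (a : Sc p σ) : LinearMap.det (scRep p σ a) = 1 := by
  let D : (Module.End ℂ (Fin d → ℂ))ˣ →* ℂ := LinearMap.det.comp (Units.coeHom _)
  have h : Sc p σ ≤ (MonoidHom.toHomUnits D).ker := by
    refine (Subgroup.closure_le _).2 ?_
    rintro U ⟨x, c, -, -, -, hdet⟩
    exact Units.ext hdet
  exact congrArg Units.val (h a.2)

theorem exists_lift (a : Sc p σ) : ∃ (g : G) (c : ℂ), c ≠ 0 ∧ scRep p σ a = c • σ g := by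
  obtain ⟨U, hU⟩ := a
  induction hU using Subgroup.closure_induction with
  | mem U hU =>
    obtain ⟨x, c, -, ⟨k, hk⟩, he, -⟩ := hU
    refine ⟨x, c, fun h0 => ?_, he⟩
    rw [h0, zero_pow (pow_ne_zero k hp.out.ne_zero)] at hk
    exact zero_ne_one hk
  | one => exact ⟨1, 1, one_ne_zero, by simp [scRep]⟩
  | mul a b _ _ ha hb =>
    obtain ⟨x, c, hc, he⟩ := ha
    obtain ⟨y, e, hy, he'⟩ := hb
    simp only [scRep, MonoidHom.comp_apply, Subgroup.coe_subtype, Units.coeHom_apply] at he he' ⊢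
    exact ⟨x * y, c * e, mul_ne_zero hc hy, by
      rw [Units.val_mul, he, he', smul_mul_smul_comm, map_mul]⟩
  | inv a _ ha =>
    obtain ⟨x, c, hc, he⟩ := ha
    simp only [scRep, MonoidHom.comp_apply, Subgroup.coe_subtype, Units.coeHom_apply] at he ⊢
    refine ⟨x⁻¹, c⁻¹, inv_ne_zero hc, Units.inv_eq_of_mul_eq_one_right ?_⟩
    rw [he, smul_mul_smul_comm, mul_inv_cancel₀ hc, one_smul, ← map_mul, mul_inv_cancel, map_one]

theorem scalar_unique (hd : 0 < d) (hdp : d < p) {A : Module.End ℂ (Fin d → ℂ)} {c c' : ℂ}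
    {k k' : ℕ} (hk : c ^ p ^ k = 1) (hk' : c' ^ p ^ k' = 1) (h : LinearMap.det (c • A) = 1)
    (h' : LinearMap.det (c' • A) = 1) : c = c' := by
  rw [det_smul_end] at h h'
  have hA : LinearMap.det A ≠ 0 := fun e => by rw [e, mul_zero] at h; exact zero_ne_one h
  have hc' : c' ≠ 0 := fun e => by
    rw [e, zero_pow (pow_ne_zero k' hp.out.ne_zero)] at hk'; exact zero_ne_one hk'
  have h2 : (c / c') ^ d = 1 := by
    rw [div_pow, mul_right_cancel₀ hA (h.trans h'.symm), div_self (pow_ne_zero _ hc')]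
  exact (div_eq_one_iff_eq hc').1 (eq_one_of_root (p := p) hd hdp (k := k + k') (by
    rw [div_pow, pow_add, pow_mul c, hk, one_pow, mul_comm, pow_mul c', hk', one_pow, div_one]) h2)

theorem exists_scaled (hd : 0 < d) (hdp : d < p) {x : G} (hx : PElem p x) :
    ∃ (a : Sc p σ) (c : ℂ), (∃ k, c ^ p ^ k = 1) ∧ scRep p σ a = c • σ x ∧ PElem p a ∧
      (x ^ p = 1 → a ^ p = 1) := by
  obtain ⟨k, hk⟩ := hx
  set δ := LinearMap.det (σ x) with hδ
  have hδk : δ ^ p ^ k = 1 := by rw [hδ, ← map_pow, ← map_pow, hk, map_one, map_one]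
  obtain ⟨m, hm⟩ := exists_pow_eq_self_of_coprime (x := δ) (n := d)
    (Nat.Coprime.coprime_dvd_right (orderOf_dvd_of_pow_eq_one hδk) (coprime_of_lt hd hdp k))
  have hδ0 : δ ≠ 0 := fun e => by
    rw [e, zero_pow (pow_ne_zero k hp.out.ne_zero)] at hδk; exact zero_ne_one hδk
  set c := (δ ^ m)⁻¹ with hcdef
  have hck : ∀ j : ℕ, δ ^ p ^ j = 1 → c ^ p ^ j = 1 := fun j hj => by
    rw [hcdef, inv_pow, ← pow_mul, mul_comm, pow_mul, hj, one_pow, inv_one]
  have hdet : LinearMap.det (c • σ x) = 1 := by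
    rw [det_smul_end, hcdef, inv_pow, ← pow_mul, mul_comm m, pow_mul, hm, inv_mul_cancel₀ hδ0]
  have hc0 : c ≠ 0 := inv_ne_zero (pow_ne_zero _ hδ0)
  let U : (Module.End ℂ (Fin d → ℂ))ˣ :=
    ⟨c • σ x, c⁻¹ • σ x⁻¹, by
      rw [smul_mul_smul_comm, mul_inv_cancel₀ hc0, one_smul, ← map_mul, mul_inv_cancel, map_one], by
      rw [smul_mul_smul_comm, inv_mul_cancel₀ hc0, one_smul, ← map_mul, inv_mul_cancel, map_one]⟩
  have hpow : ∀ j : ℕ, x ^ p ^ j = 1 → U ^ p ^ j = 1 := fun j hj => Units.ext (by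
    rw [Units.val_pow_eq_pow_val, Units.val_one]
    show (c • σ x) ^ p ^ j = 1
    rw [smul_pow, ← map_pow, hj, map_one, hck j (by rw [hδ, ← map_pow, ← map_pow, hj, map_one,
      map_one]), one_smul])
  refine ⟨⟨U, Subgroup.subset_closure ⟨x, c, ⟨k, hk⟩, ⟨k, hck k hδk⟩, rfl, hdet⟩⟩, c,
    ⟨k, hck k hδk⟩, rfl, ⟨k, Subtype.ext (by simpa using hpow k hk)⟩, fun h => Subtype.ext ?_⟩
  simpa using hpow 1 (by rwa [pow_one])

/-- The rescaling is a homomorphism on `p`-subgroups. -/
theorem exists_scHom (hd : 0 < d) (hdp : d < p) {Q : Subgroup G} (hQ : IsPGroup p Q) :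
    ∃ ψ : Q →* Sc p σ, ∀ x : Q, ∃ c : ℂ, (∃ k, c ^ p ^ k = 1) ∧ scRep p σ (ψ x) = c • σ x := by
  choose a c hc ha _ _ using fun x : Q =>
    exists_scaled (σ := σ) hd hdp (PElem.of_mem hQ x.2)
  refine ⟨MonoidHom.mk' a fun x y => scRep_injective ?_, fun x => ⟨c x, hc x, ha x⟩⟩
  obtain ⟨k, hk⟩ := hc (x * y)
  obtain ⟨i, hi⟩ := hc x
  obtain ⟨j, hj⟩ := hc y
  have h2 : scRep p σ (a x * a y) = (c x * c y) • σ ((x * y : Q) : G) := by
    rw [map_mul, ha, ha, smul_mul_smul_comm, Subgroup.coe_mul, map_mul]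
  rw [h2, ha]
  congr 1
  refine scalar_unique hd hdp hk (k' := i + j) ?_ (ha (x * y) ▸ det_scRep _) (h2 ▸ det_scRep _)
  rw [mul_pow, pow_add, pow_mul (c x), hi, one_pow, one_mul, mul_comm, pow_mul, hj, one_pow]

theorem scRep_irreducible [σ.IsIrreducible] (hd : 0 < d) (hdp : d < p) (hG : Gen p G) :
    (scRep p σ).IsIrreducible := by
  haveI := nontrivial_of_isIrreducible σ
  refine isIrreducible_of_forall _ fun U hU => ?_
  have hinv : ∀ g : G, ∀ v ∈ U, σ g v ∈ U := by
    let M : Subgroup G :=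
      { carrier := {g | U.map (σ g) ≤ U}
        one_mem' := by simp [Module.End.one_eq_id]
        mul_mem' := fun {a b} ha hb => by
          show U.map (σ (a * b)) ≤ U
          rw [map_mul, Module.End.mul_eq_comp, Submodule.map_comp]
          exact (Submodule.map_mono hb).trans ha
        inv_mem' := fun {a} ha => by
          show U.map (σ a⁻¹) ≤ U
          have hinj : Function.Injective (σ a) := fun v w h => by
            have := congrArg (σ a⁻¹) h
            simpa [← Module.End.mul_apply, ← map_mul] using this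
          have heq : U.map (σ a) = U := Submodule.eq_of_le_of_finrank_le ha
            (Submodule.equivMapOfInjective _ hinj U).finrank_eq.le
          conv_lhs => rw [← heq]
          rw [← Submodule.map_comp, ← Module.End.mul_eq_comp, ← map_mul, inv_mul_cancel, map_one,
            Module.End.one_eq_id, Submodule.map_id] }
    have htop := hG.eq_top (M := M) fun x hx => by
      obtain ⟨a, c, ⟨k, hk⟩, ha, -, -⟩ := exists_scaled (σ := σ) hd hdp hx
      rintro _ ⟨v, hv, rfl⟩
      have h1 := hU a v hv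
      rw [ha, LinearMap.smul_apply] at h1
      exact (U.smul_mem_iff fun h0 => by
        rw [h0, zero_pow (pow_ne_zero k hp.out.ne_zero)] at hk; exact zero_ne_one hk).1 h1
    intro g v hv
    exact (htop.ge (Subgroup.mem_top g) : U.map (σ g) ≤ U) ⟨v, hv, rfl⟩
  haveI : σ.IsIrreducible := inferInstance
  rcases eq_bot_or_eq_top (⟨U, fun g v hv => hinv g v hv⟩ : Subrepresentation σ) with h | h
  · exact Or.inl (congrArg Subrepresentation.toSubmodule h)
  · exact Or.inr (congrArg Subrepresentation.toSubmodule h)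

theorem scalar_eq_one (hd : 0 < d) (hdp : d < p) {a : Sc p σ} (ha : PElem p a) {c : ℂ}
    (hs : scRep p σ a = c • LinearMap.id) : a = 1 := by
  haveI : Nonempty (Fin d) := ⟨⟨0, hd⟩⟩
  obtain ⟨k, hk⟩ := ha
  have h1 : c ^ d = 1 := by
    have h := det_scRep a
    rwa [hs, det_smul_end, LinearMap.det_id, mul_one] at h
  have h2 : c ^ p ^ k = 1 := by
    have h := congrArg (scRep p σ) hk
    rw [map_pow, map_one, hs, smul_pow] at h
    have h' := congrArg LinearMap.det (h : c ^ p ^ k • (LinearMap.id : Module.End ℂ (Fin d → ℂ)) ^ p ^ k = 1)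
    have e : (LinearMap.id : Module.End ℂ (Fin d → ℂ)) ^ p ^ k = 1 := one_pow _
    rw [e] at h
    have := LinearMap.congr_fun h (fun _ => 1)
    simpa using congrFun this ⟨0, hd⟩
  refine scRep_injective ?_
  rw [hs, eq_one_of_root hd hdp h2 h1, one_smul, map_one]
  rfl

theorem core_sc_eq_bot [σ.IsIrreducible] (hd : 0 < d) (hdp : d < p) (hG : Gen p G) :
    core p (Sc p σ) = ⊥ := by
  haveI := finite_sc (σ := σ) hd hdp
  haveI := scRep_irreducible (σ := σ) hd hdp hG
  refine eq_bot_iff.2 fun r hr => Subgroup.mem_bot.2 ?_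
  obtain ⟨c, hc⟩ := central_scalar (scRep p σ) (core_le_center _ scRep_injective hdp gen_sc hr)
  exact scalar_eq_one hd hdp (PElem.of_mem core_isPGroup hr) hc

/-- Commutators lift without scalars. -/
theorem exists_commutator_lift {a : Sc p σ} (ha : a ∈ commutator (Sc p σ)) :
    ∃ h ∈ commutator G, scRep p σ a = σ h := by
  rw [commutator_eq_closure] at ha
  induction ha using Subgroup.closure_induction with
  | mem a ha =>
    obtain ⟨b, b', rfl⟩ := ha
    obtain ⟨g, c, hc, he⟩ := exists_lift b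
    obtain ⟨g', c', hc', he'⟩ := exists_lift b'
    obtain ⟨gi, ci, hci, hei⟩ := exists_lift b⁻¹
    refine ⟨⁅g, g'⁆, ?_, ?_⟩
    · rw [commutator_def]
      exact Subgroup.commutator_mem_commutator (Subgroup.mem_top g) (Subgroup.mem_top g')
    · have hinv : ∀ (b : Sc p σ) (g : G) (c : ℂ), c ≠ 0 → scRep p σ b = c • σ g →
          scRep p σ b⁻¹ = c⁻¹ • σ g⁻¹ := fun b g c hc he => by
        have h1 : scRep p σ b⁻¹ * scRep p σ b = 1 := by rw [← map_mul, inv_mul_cancel, map_one]
        calc scRep p σ b⁻¹ = scRep p σ b⁻¹ * (scRep p σ b * (c⁻¹ • σ g⁻¹)) := by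
              rw [he, smul_mul_smul_comm, mul_inv_cancel₀ hc, one_smul, ← map_mul, mul_inv_cancel,
                map_one, mul_one]
          _ = _ := by rw [← mul_assoc, h1, one_mul]
      rw [commutatorElement_def, commutatorElement_def, map_mul, map_mul, map_mul, he, he',
        hinv b g c hc he, hinv b' g' c' hc' he']
      simp only [smul_mul_smul_comm, map_mul]
      rw [show c * c' * c⁻¹ * c'⁻¹ = 1 by field_simp, one_smul]
  | one => exact ⟨1, Subgroup.one_mem _, by simp⟩
  | mul a b _ _ ha hb =>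
    obtain ⟨x, hx, he⟩ := ha
    obtain ⟨y, hy, he'⟩ := hb
    exact ⟨x * y, mul_mem hx hy, by rw [map_mul, he, he', map_mul]⟩
  | inv a _ ha =>
    obtain ⟨x, hx, he⟩ := ha
    refine ⟨x⁻¹, inv_mem hx, ?_⟩
    calc scRep p σ a⁻¹ = scRep p σ a⁻¹ * (scRep p σ a * σ x⁻¹) := by
          rw [he, ← map_mul σ, mul_inv_cancel, map_one, mul_one]
      _ = _ := by rw [← mul_assoc, ← map_mul, inv_mul_cancel, map_one, one_mul]

end CfsgLib.DegreeSixteen
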