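import Cfsg.Agent.DegreeSixteen.Shape
import Cfsg.Agent.DegreeSixteen.Scale

/-!
# Noncommutative irreducible pieces
-/

set_option autoImplicit false
set_option linter.style.haveILetI false
set_option linter.unusedSectionVars false

namespace CfsgLib.DegreeSixteen

open Cfsg CfsgLib.Characters

variable {p : ℕ} [hp : Fact p.Prime]

/-- The induction hypothesis below a dimension. -/
def IH (p n : ℕ) : Prop :=
  ∀ m < n, ∀ (G : Type) [Group G] [Finite G] (ρ : Representation ℂ G (Fin m → ℂ)),
    Function.Injective ρ → Good p G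

theorem orderOf_of_pelem {G : Type*} [Group G] [Finite G] (hsq : ¬ p ^ 2 ∣ Nat.card G) {x : G}
    (hx : PElem p x) (h1 : x ≠ 1) : orderOf x = p := by
  obtain ⟨k, hk⟩ := hx
  obtain ⟨i, -, hi⟩ := (Nat.dvd_prime_pow hp.out).1 (orderOf_dvd_of_pow_eq_one hk)
  rcases Nat.lt_or_ge i 2 with h | h
  · interval_cases i
    · exact absurd (orderOf_eq_one_iff.1 (by rw [hi, pow_zero])) h1
    · rw [hi, pow_one]
  · exact absurd ((pow_dvd_pow p h).trans (hi ▸ orderOf_dvd_natCard x)) hsq

/-- A noncommutative group with Sylow subgroup of order `p` is perfect. -/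
theorem perfect_of_orderP {G : Type*} [Group G] [Fintype G] {d : ℕ}
    (ρ : Representation ℂ G (Fin d → ℂ)) [ρ.IsIrreducible] (hinj : Function.Injective ρ)
    (hsq : ¬ p ^ 2 ∣ Nat.card G) (hgen : Gen p G) (hcore : core p G = ⊥) (hd : d + 1 < p)
    {u : G} (hu : orderOf u = p) : commutator G = ⊤ := by
  classical
  set K := commutator G with hK
  haveI := Fintype.ofFinite K
  by_cases hdvd : p ∣ Nat.card K
  · obtain ⟨w, hw⟩ := exists_prime_orderOf_dvd_card' (G := K) p hdvd
    refine hgen.eq_top fun x hx => ?_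
    by_cases h1 : x = 1
    · rw [h1]; exact one_mem _
    · exact SmallDegreeP.mem_normal_of_orderOf hsq w.2 (by rw [Subgroup.orderOf_coe]; exact hw)
        (orderOf_of_pelem hsq hx h1)
  exfalso
  have hup : u ^ p = 1 := hu ▸ pow_orderOf_eq_one u
  obtain ⟨Q, hQ⟩ := (PElem.of_pow_p (p := p) hup).exists_sylow
  have hQe : (Q : Subgroup G) = Subgroup.zpowers u := (Subgroup.eq_of_le_of_card_ge
    (Subgroup.zpowers_le.2 hQ) (by
      rw [Nat.card_zpowers, hu,
        DefectOne.card_sylow_of_sq_not_dvd (hu ▸ orderOf_dvd_natCard u) hsq Q])).symm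
  have htop : K ⊔ Subgroup.zpowers u = ⊤ := hgen.eq_top fun x hx => by
    obtain ⟨P, hP⟩ := hx.exists_sylow
    obtain ⟨g, rfl⟩ := MulAction.exists_smul_eq G Q P
    rw [Sylow.coe_subgroup_smul] at hP
    obtain ⟨w, hw, rfl⟩ := Subgroup.mem_map.1
      (show x ∈ (Q : Subgroup G).map (MulAut.conj g).toMonoidHom from hP)
    rw [hQe] at hw
    show g * w * g⁻¹ ∈ _
    rw [show g * w * g⁻¹ = g * w * g⁻¹ * w⁻¹ * w by group]
    refine mul_mem (Subgroup.mem_sup_left ?_) (Subgroup.mem_sup_right hw)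
    rw [hK, commutator_def]
    exact Subgroup.commutator_mem_commutator (Subgroup.mem_top g) (Subgroup.mem_top w)
  obtain ⟨c, hc⟩ := CharactersDeep.SmallDegree.scalar_of_small (p := p) (k := 0) K u
    (by rw [hu, zero_add, pow_one]) hdvd (fun g => by
      obtain ⟨a, ha, v, hv, rfl⟩ := Subgroup.mem_sup_of_normal_left.1
        (htop.ge (Subgroup.mem_top g) : g ∈ K ⊔ Subgroup.zpowers u)
      exact ⟨a, ha, v, hv, rfl⟩) (by rw [hup]; exact one_mem _) ρ hd
  have hcen : u ∈ Subgroup.center G := Subgroup.mem_center_iff.2 fun g => hinj (by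
    rw [map_mul, map_mul, hc]
    ext v
    simp [Module.End.mul_apply])
  haveI : (Subgroup.zpowers u).Normal := ⟨fun n hn g => by
    rw [Subgroup.mem_center_iff.1 (Subgroup.zpowers_le.2 hcen hn) g, mul_inv_cancel_right]; exact hn⟩
  have h2 := le_core (p := p) (PElem.of_pow_p hup).zpowers (Subgroup.mem_zpowers u)
  rw [hcore, Subgroup.mem_bot] at h2
  rw [h2, orderOf_one] at hu
  exact hp.out.ne_one hu.symm

/-- The determinant-one multiples of a noncommutative irreducible group. -/
theorem sc_facts {G : Type*} [Group G] [Finite G] {d : ℕ} (σ : Representation ℂ G (Fin d → ℂ))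
    [σ.IsIrreducible] (hdp : d + 1 < p) (hgen : Gen p G) (hgood : Good p (Sc p σ))
    (hnc : ∃ a b, σ (a * b) ≠ σ (b * a)) :
    Finite (Sc p σ) ∧ (scRep p σ).IsIrreducible ∧ core p (Sc p σ) = ⊥ ∧
      ¬ p ^ 2 ∣ Nat.card (Sc p σ) ∧ ∃ u : Sc p σ, orderOf u = p := by
  have hd : 0 < d := by
    have := finrank_pos_of_isIrreducible σ
    rwa [Module.finrank_fin_fun] at this
  haveI := finite_sc (σ := σ) hd (by omega : d < p)
  have hcore := core_sc_eq_bot (σ := σ) hd (by omega) hgen
  obtain ⟨x, hx, hxs⟩ : ∃ x, PElem p x ∧ ∀ c : ℂ, σ x ≠ c • LinearMap.id := by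
    by_contra hcon
    push Not at hcon
    obtain ⟨a, b, hab⟩ := hnc
    have hG : Gen p (Im σ) := hgen.of_surjective _ (toIm_surjective σ)
    refine hab ?_
    let M : Subgroup G :=
      { carrier := {g | ∀ h, σ (g * h) = σ (h * g)}
        one_mem' := fun h => by rw [one_mul, mul_one]
        mul_mem' := fun {g g'} hg hg' h => by
          rw [mul_assoc, map_mul, hg' h, ← map_mul, ← mul_assoc, map_mul, hg h, ← map_mul,
            ← mul_assoc]
        inv_mem' := fun {g} hg h => by
          have h1 := congrArg (fun T => σ g⁻¹ * T * σ g⁻¹) (hg h)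
          simp only [← map_mul, inv_mul_cancel_left, mul_assoc, mul_inv_cancel, mul_one] at h1
          exact h1.symm }
    have htop := hgen.eq_top (M := M) fun x hx h => by
      obtain ⟨c, hc⟩ := hcon x hx
      rw [map_mul, map_mul, hc]
      ext v
      simp [Module.End.mul_apply]
    exact (htop.ge (Subgroup.mem_top a) : a ∈ M) b
  obtain ⟨a, c, ⟨k, hk⟩, ha, hap, -⟩ := exists_scaled (σ := σ) hd (by omega) hx
  have ha1 : a ≠ 1 := by
    rintro rfl
    rw [map_one] at ha
    refine hxs c⁻¹ ?_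
    rw [show (LinearMap.id : Module.End ℂ (Fin d → ℂ)) = 1 from rfl, ha, smul_smul,
      inv_mul_cancel₀ (fun h0 => by
        rw [h0, zero_pow (pow_ne_zero k hp.out.ne_zero)] at hk; exact zero_ne_one hk), one_smul]
  obtain ⟨P, hP⟩ := hap.exists_sylow
  have hsq : ¬ p ^ 2 ∣ Nat.card (Sc p σ) := by
    intro h
    have h2 : p ^ 2 ∣ Nat.card (P : Subgroup (Sc p σ)) := by
      rw [P.card_eq_multiplicity]
      exact pow_dvd_pow p ((hp.out.pow_dvd_iff_le_factorization Nat.card_pos.ne').1 h)
    have h3 := Nat.le_of_dvd Nat.card_pos h2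
    have h4 := hgood P
    rw [hcore, Subgroup.card_bot, mul_one] at h4
    have := hp.out.two_le
    nlinarith
  exact ⟨inferInstance, scRep_irreducible hd (by omega) hgen, hcore, hsq, a,
    orderOf_of_pelem hsq hap ha1⟩

variable {G : Type} [Group G] {V : Type*} [AddCommGroup V] [Module ℂ V]
  (ρ : Representation ℂ G V)

/-- The group does not commute on the subspace. -/
def NC (S : Submodule ℂ V) : Prop := ∃ a b, ∃ v ∈ S, ρ (a * b) v ≠ ρ (b * a) v

variable [Finite G] [FiniteDimensional ℂ V]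

/-- A noncommutative invariant subspace contains a noncommutative irreducible one. -/
theorem exists_irr_nc (U : Subrepresentation ρ) (h : NC ρ U.toSubmodule) :
    ∃ W : Subrepresentation ρ, W.toSubmodule ≤ U.toSubmodule ∧ W.toRepresentation.IsIrreducible ∧
      NC ρ W.toSubmodule := by
  classical
  have hex : ∃ n, ∃ W : Subrepresentation ρ, W.toSubmodule ≤ U.toSubmodule ∧ NC ρ W.toSubmodule ∧
      Module.finrank ℂ W.toSubmodule = n := ⟨_, U, le_rfl, h, rfl⟩
  obtain ⟨W, hWU, hW, hn⟩ := Nat.find_spec hex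
  haveI : Nontrivial W.toSubmodule := by
    obtain ⟨a, b, v, hv, hne⟩ := hW
    exact ⟨⟨⟨v, hv⟩, 0, fun e => hne (by
      rw [show v = 0 from congrArg Subtype.val e, map_zero, map_zero])⟩⟩
  refine ⟨W, hWU, ?_, hW⟩
  by_contra hred
  obtain ⟨S, T, hST, hS, hT⟩ := exists_split W.toRepresentation hred
  have key : ∀ S : Subrepresentation W.toRepresentation,
      Module.finrank ℂ S.toSubmodule < Module.finrank ℂ W.toSubmodule →
      ∀ a b, ∀ v : W.toSubmodule, v ∈ S.toSubmodule → ρ (a * b) v = ρ (b * a) v := by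
    intro S hS a b v hv
    by_contra hne
    let W' : Subrepresentation ρ := ⟨S.toSubmodule.map W.toSubmodule.subtype, by
      rintro g _ ⟨x, hx, rfl⟩
      exact ⟨_, S.apply_mem_toSubmodule g hx, rfl⟩⟩
    have hf : Module.finrank ℂ W'.toSubmodule = Module.finrank ℂ S.toSubmodule :=
      (Submodule.equivMapOfInjective _ W.toSubmodule.injective_subtype _).finrank_eq.symm
    have := Nat.find_min' hex (m := Module.finrank ℂ S.toSubmodule)
      ⟨W', (Submodule.map_subtype_le _ _).trans hWU, ⟨a, b, v, ⟨v, hv, rfl⟩, hne⟩, hf⟩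
    omega
  obtain ⟨a, b, v, hv, hne⟩ := hW
  obtain ⟨s, hs, t, ht, hst⟩ := Submodule.mem_sup.1
    (hST.sup_eq_top.ge (Submodule.mem_top : (⟨v, hv⟩ : W.toSubmodule) ∈ ⊤))
  refine hne ?_
  rw [show v = (s : V) + (t : V) from (congrArg Subtype.val hst).symm, map_add, map_add,
    key S hS a b s hs, key T hT a b t ht]

/-- The data of a noncommutative irreducible piece. -/
theorem piece {n : ℕ} (hIH : IH p n) (hn : n ≤ 17) (hp19 : 19 ≤ p) (hgen : Gen p G)
    (S : Subrepresentation ρ) [S.toRepresentation.IsIrreducible]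
    (hS : Module.finrank ℂ S.toSubmodule < n) (hnc : NC ρ S.toSubmodule) :
    9 ≤ Module.finrank ℂ S.toSubmodule ∧
    (∀ x : G, x ^ p = 1 → (∀ c : ℂ, ∃ v ∈ S.toSubmodule, ρ x v ≠ c • v) → ∀ μ : ℂ,
      Module.finrank ℂ (Module.End.eigenspace (ρ x) μ ⊓ S.toSubmodule : Submodule ℂ V) ≤ 2 ∧
      (Module.finrank ℂ S.toSubmodule ≤ 9 →
        Module.finrank ℂ (Module.End.eigenspace (ρ x) μ ⊓ S.toSubmodule : Submodule ℂ V) ≤ 1)) ∧
    ∃ y ∈ commutator G, PElem p y ∧
      Module.finrank ℂ (Module.End.eigenspace (ρ y) 1 ⊓ S.toSubmodule : Submodule ℂ V) + 9 ≤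
        Module.finrank ℂ S.toSubmodule := by
  classical
  obtain ⟨d, σ, e, hd, he, hirr⟩ := exists_finRep ρ S
  haveI : σ.IsIrreducible := hirr.1 inferInstance
  have hd0 : 0 < d := by
    have := finrank_pos_of_isIrreducible σ
    rwa [Module.finrank_fin_fun] at this
  have hdp : d < p := by omega
  haveI := finite_sc (σ := σ) hd0 hdp
  have hgood : Good p (Sc p σ) := hIH d (hd ▸ hS) (Sc p σ) (scRep p σ) scRep_injective
  have hncσ : ∃ a b, σ (a * b) ≠ σ (b * a) := by
    obtain ⟨a, b, v, hv, hne⟩ := hnc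
    refine ⟨a, b, fun h => hne ?_⟩
    have h1 := LinearMap.congr_fun h (e ⟨v, hv⟩)
    rw [he, he] at h1
    exact congrArg Subtype.val (e.injective h1)
  obtain ⟨-, hirr', hcore, hsq, u, hu⟩ := sc_facts σ (by omega) hgen hgood hncσ
  haveI := hirr'
  haveI := Fintype.ofFinite (Sc p σ)
  have hgenS : Gen p (Sc p σ) := gen_sc
  have hspec := fun a (ha : orderOf a = p) =>
    spectrum (scRep p σ) scRep_injective hsq hgenS hcore ha hp19 (by omega)
  have hmap : ∀ (x : G) (μ : ℂ),
      Module.finrank ℂ (Module.End.eigenspace (ρ x) μ ⊓ S.toSubmodule : Submodule ℂ V) =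
        Module.finrank ℂ (Module.End.eigenspace (σ x) μ) := by
    intro x μ
    have heq : Module.End.eigenspace (σ x) μ = ((Module.End.eigenspace (ρ x) μ).comap
        S.toSubmodule.subtype).map e.toLinearMap := by
      ext w
      obtain ⟨v, rfl⟩ := e.surjective w
      rw [Module.End.mem_eigenspace_iff, he, ← map_smul, e.injective.eq_iff]
      constructor
      · exact fun h => ⟨v, Module.End.mem_eigenspace_iff.2 (congrArg Subtype.val h), rfl⟩
      · rintro ⟨v', hv', hvv⟩
        obtain rfl : v' = v := e.injective hvv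
        exact Subtype.ext (Module.End.mem_eigenspace_iff.1 hv')
    rw [heq, (Submodule.equivMapOfInjective _ e.injective _).finrank_eq.symm,
      (Submodule.equivMapOfInjective _ S.toSubmodule.injective_subtype _).finrank_eq,
      Submodule.map_comap_subtype, inf_comm]
  have hdim : Module.finrank ℂ S.toSubmodule = d := hd.symm
  rw [hdim]
  refine ⟨(hspec u hu).1, fun x hx hns μ => ?_, ?_⟩
  · obtain ⟨a, c, ⟨k, hk⟩, ha, hap, -⟩ := exists_scaled (σ := σ) hd0 hdp (PElem.of_pow_p hx)
    have hc0 : c ≠ 0 := fun h0 => by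
      rw [h0, zero_pow (pow_ne_zero k hp.out.ne_zero)] at hk; exact zero_ne_one hk
    have ha1 : a ≠ 1 := by
      rintro rfl
      obtain ⟨v, hv, hne⟩ := hns c⁻¹
      refine hne ?_
      have h1 := LinearMap.congr_fun ha (e ⟨v, hv⟩)
      rw [map_one, LinearMap.smul_apply, he, Module.End.one_apply, ← map_smul] at h1
      have h2 : v = c • ρ x v := congrArg Subtype.val (e.injective h1)
      conv_rhs => rw [h2]
      rw [smul_smul, inv_mul_cancel₀ hc0, one_smul]
    have hE : Module.End.eigenspace (σ x) μ = Module.End.eigenspace (scRep p σ a) (c * μ) := by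
      ext v
      rw [Module.End.mem_eigenspace_iff, Module.End.mem_eigenspace_iff, ha, LinearMap.smul_apply,
        mul_smul]
      exact ⟨fun h => by rw [h], fun h => smul_right_injective _ hc0 h⟩
    obtain ⟨h1, h2⟩ := (hspec a (orderOf_of_pelem hsq hap ha1)).2.1 (c * μ)
    rw [hmap, hE]
    exact ⟨h1, h2⟩
  · obtain ⟨h, hh, hh'⟩ := exists_commutator_lift (σ := σ) (a := u)
      (by rw [perfect_of_orderP (scRep p σ) scRep_injective hsq hgenS hcore (by omega) hu]; trivial)
    set o := orderOf h with ho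
    have hop : 0 < o := orderOf_pos h
    obtain ⟨i, m', hm', hom⟩ := Nat.exists_eq_pow_mul_and_not_dvd hop.ne' p hp.out.ne_one
    obtain ⟨m, hm1, hm0⟩ := Nat.chineseRemainder
      (Nat.Coprime.pow_left (i + 1) (hp.out.coprime_iff_not_dvd.2 hm')) 1 0
    refine ⟨h ^ m, Subgroup.pow_mem _ hh m, ⟨i, ?_⟩, ?_⟩
    · rw [← pow_mul, ← orderOf_dvd_iff_pow_eq_one, ← ho, hom, mul_comm (p ^ i)]
      exact Nat.mul_dvd_mul_right (Nat.modEq_zero_iff_dvd.1 hm0) _
    · rw [hmap]
      have he1 : σ (h ^ m) = scRep p σ u := by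
        have hum : u ^ m = u := by
          conv_rhs => rw [← pow_one u]
          rw [pow_eq_pow_iff_modEq, hu]
          exact hm1.of_dvd (dvd_pow_self p (by omega))
        rw [map_pow, ← hh', ← map_pow, hum]
      rw [he1]
      exact (hspec u hu).2.2

end CfsgLib.DegreeSixteen
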