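import Cfsg.Agent.DegreeSixteen.Piece
import Cfsg.Agent.CharactersDeep.AbelianBound

/-!
# The order of a Sylow subgroup

In degree at most 16 and for `p ≥ 19` the Sylow `p`-subgroups exceed their intersection by a
factor of at most `p`.
-/

set_option autoImplicit false
set_option linter.style.haveILetI false
set_option linter.unusedSectionVars false

namespace CfsgLib.DegreeSixteen

open Cfsg CfsgLib.Characters

variable {p : ℕ} [hp : Fact p.Prime] {G : Type} [Group G] [Finite G] {n : ℕ}
  (ρ : Representation ℂ G (Fin n → ℂ))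

/-- A reducible noncommutative group has one noncommutative piece. -/
theorem exists_component (hIH : IH p n) (hn : n ≤ 16) (hp19 : 19 ≤ p) (hgen : Gen p G)
    (hred : ¬ ρ.IsIrreducible) (hnc : ∃ a b, ρ (a * b) ≠ ρ (b * a)) :
    ∃ W T : Subrepresentation ρ, IsCompl W.toSubmodule T.toSubmodule ∧
      W.toRepresentation.IsIrreducible ∧ NC ρ W.toSubmodule ∧
      Module.finrank ℂ W.toSubmodule < n ∧ 9 ≤ Module.finrank ℂ W.toSubmodule ∧
      ¬ NC ρ T.toSubmodule := by
  haveI : Nontrivial (Fin n → ℂ) := by
    obtain ⟨a, b, h⟩ := hnc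
    by_contra hn
    rw [not_nontrivial_iff_subsingleton] at hn
    exact h (LinearMap.ext fun x => Subsingleton.elim _ _)
  have htop : NC ρ (⊤ : Subrepresentation ρ).toSubmodule := by
    obtain ⟨a, b, h⟩ := hnc
    by_contra hcon
    simp only [NC, not_exists, not_and, not_not] at hcon
    exact h (LinearMap.ext fun v => hcon a b v Submodule.mem_top)
  obtain ⟨W, -, hW, hWnc⟩ := exists_irr_nc ρ ⊤ htop
  have hWlt : Module.finrank ℂ W.toSubmodule < n := by
    have h1 : Module.finrank ℂ (Fin n → ℂ) = n := Module.finrank_fin_fun ℂ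
    refine lt_of_le_of_ne (W.toSubmodule.finrank_le.trans_eq h1) fun he => hred ?_
    have htop' : W.toSubmodule = ⊤ := Submodule.eq_top_of_finrank_eq (he.trans h1.symm)
    refine isIrreducible_of_forall ρ fun U hU => ?_
    haveI := hW
    let U' : Subrepresentation W.toRepresentation :=
      ⟨U.comap W.toSubmodule.subtype, fun g x hx => hU g _ hx⟩
    rcases eq_bot_or_eq_top U' with h | h
    · refine Or.inl (eq_bot_iff.2 fun x hx => ?_)
      have h2 : (⟨x, htop'.ge Submodule.mem_top⟩ : W.toSubmodule) ∈ U'.toSubmodule := hx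
      rw [h] at h2
      exact congrArg Subtype.val ((Submodule.mem_bot ℂ).1 h2)
    · refine Or.inr (eq_top_iff.2 fun x _ => ?_)
      have h2 : (⟨x, htop'.ge Submodule.mem_top⟩ : W.toSubmodule) ∈ U'.toSubmodule := by
        rw [h]; exact Submodule.mem_top
      exact h2
  obtain ⟨T, hT⟩ := exists_compl ρ W
  haveI := hW
  have h9 := (piece ρ hIH (by omega) hp19 hgen W hWlt hWnc).1
  refine ⟨W, T, hT, hW, hWnc, hWlt, h9, fun hTnc => ?_⟩
  obtain ⟨W', hW'T, hW', hW'nc⟩ := exists_irr_nc ρ T hTnc
  haveI := hW'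
  have hsum := Submodule.finrank_add_eq_of_isCompl hT
  rw [Module.finrank_fin_fun] at hsum
  have hle := Submodule.finrank_mono hW'T
  have h9' := (piece ρ hIH (by omega) hp19 hgen W' (by omega) hW'nc).1
  omega

/-- An operator commuting with the group is a scalar on the noncommutative piece. -/
theorem scalar_on_component {W T : Subrepresentation ρ}
    (hT : IsCompl W.toSubmodule T.toSubmodule) [W.toRepresentation.IsIrreducible]
    (hWnc : NC ρ W.toSubmodule) (hTc : ¬ NC ρ T.toSubmodule)
    (A : Module.End ℂ (Fin n → ℂ)) (hA : ∀ g, A * ρ g = ρ g * A) (hinj : Function.Injective A) :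
    ∃ c : ℂ, ∀ v ∈ W.toSubmodule, A v = c • v := by
  simp only [NC, not_exists, not_and, not_not] at hTc
  have hAc : ∀ g v, A (ρ g v) = ρ g (A v) := fun g v => LinearMap.congr_fun (hA g) v
  have hmem : ∀ v ∈ W.toSubmodule, A v ∈ W.toSubmodule := by
    let K : Subrepresentation W.toRepresentation :=
      ⟨(W.toSubmodule.comap (A ∘ₗ W.toSubmodule.subtype)), fun g x hx => by
        show A (ρ g x) ∈ W.toSubmodule
        rw [hAc]
        exact W.apply_mem_toSubmodule g hx⟩
    rcases eq_bot_or_eq_top K with h | h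
    · exfalso
      obtain ⟨a, b, v, hv, hne⟩ := hWnc
      obtain ⟨w, hw, t, ht, hwt⟩ := Submodule.mem_sup.1
        (hT.sup_eq_top.ge (Submodule.mem_top : A v ∈ ⊤))
      have h1 : A (ρ (a * b) v - ρ (b * a) v) ∈ W.toSubmodule := by
        rw [map_sub, hAc, hAc, ← hwt, map_add, map_add, hTc a b t ht, add_sub_add_right_eq_sub]
        exact sub_mem (W.apply_mem_toSubmodule _ hw) (W.apply_mem_toSubmodule _ hw)
      have h2 : (⟨_, sub_mem (W.apply_mem_toSubmodule (a * b) hv)
        (W.apply_mem_toSubmodule (b * a) hv)⟩ : W.toSubmodule) ∈ K.toSubmodule := h1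
      rw [h] at h2
      exact hne (sub_eq_zero.1 (congrArg Subtype.val ((Submodule.mem_bot ℂ).1 h2)))
    · intro v hv
      have h2 : (⟨v, hv⟩ : W.toSubmodule) ∈ K.toSubmodule := by rw [h]; exact Submodule.mem_top
      exact h2
  obtain ⟨c, hc⟩ := schur_scalar W.toRepresentation (A.restrict hmem) fun g v =>
    Subtype.ext (hAc g v)
  exact ⟨c, fun v hv => congrArg Subtype.val (LinearMap.congr_fun hc ⟨v, hv⟩)⟩

theorem injective_rep (g : G) : Function.Injective (ρ g) := fun v w h => by
  have := congrArg (ρ g⁻¹) h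
  simpa [← Module.End.mul_apply, ← map_mul] using this

/-- The reducible case. -/
theorem good_of_reducible (hρ : Function.Injective ρ) (hIH : IH p n) (hn : n ≤ 16)
    (hp19 : 19 ≤ p) (hgen : Gen p G) (hred : ¬ ρ.IsIrreducible) : Good p G := by
  classical
  by_cases hnc : ∃ a b, ρ (a * b) ≠ ρ (b * a)
  swap
  · push Not at hnc
    have hall := hgen.isPGroup fun a b => hρ (hnc a b)
    intro P
    calc Nat.card (P : Subgroup G) ≤ Nat.card (⊤ : Subgroup G) := Subgroup.card_le_of_le le_top
      _ ≤ Nat.card (core p G) := Subgroup.card_le_of_le (le_core (isPGroup_of_forall fun x _ => hall x))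
      _ ≤ p * Nat.card (core p G) := Nat.le_mul_of_pos_left _ hp.out.pos
  obtain ⟨W, T, hT, hW, hWnc, hWlt, -, hTc⟩ := exists_component ρ hIH hn hp19 hgen hred hnc
  simp only [NC, not_exists, not_and, not_not] at hTc
  obtain ⟨d, σ, e, hd, he, -⟩ := exists_finRep ρ W
  set f := toIm σ
  haveI : Finite (Im σ) := Finite.of_surjective _ (toIm_surjective σ)
  have hgood : Good p (Im σ) := hIH d (hd ▸ hWlt) _ (imRep σ) (imRep_injective σ)
  obtain ⟨dT, σT, eT, -, heT, -⟩ := exists_finRep ρ T
  haveI : Finite (Im σT) := Finite.of_surjective _ (toIm_surjective σT)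
  have hTim : ∀ x : Im σT, PElem p x := by
    refine (hgen.of_surjective _ (toIm_surjective σT)).isPGroup fun a b => ?_
    obtain ⟨a, rfl⟩ := toIm_surjective σT a
    obtain ⟨b, rfl⟩ := toIm_surjective σT b
    refine imRep_injective σT (LinearMap.ext fun w => ?_)
    obtain ⟨⟨v, hv⟩, rfl⟩ := eT.surjective w
    rw [← map_mul, ← map_mul, imRep_toIm, imRep_toIm, heT, heT]
    exact congrArg eT (Subtype.ext (hTc a b v hv))
  set R := (core p (Im σ)).comap f
  have hR : IsPGroup p R := isPGroup_of_forall fun x hx => by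
    obtain ⟨i, hi⟩ := PElem.of_mem core_isPGroup (Subgroup.mem_comap.1 hx)
    obtain ⟨j, hj⟩ := hTim (toIm σT x)
    refine ⟨i + j, hρ (LinearMap.ext fun v => ?_)⟩
    have h1 : σ (x ^ p ^ (i + j)) = 1 :=
      (toIm_eq_one_iff σ _).1 (by rw [map_pow, pow_add, pow_mul, hi, one_pow])
    have h2 : σT (x ^ p ^ (i + j)) = 1 :=
      (toIm_eq_one_iff σT _).1 (by rw [map_pow, pow_add, mul_comm, pow_mul, hj, one_pow])
    obtain ⟨w, hw, t, ht, rfl⟩ := Submodule.mem_sup.1
      (hT.sup_eq_top.ge (Submodule.mem_top : v ∈ ⊤))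
    have h3 := LinearMap.congr_fun h1 (e ⟨w, hw⟩)
    have h4 := LinearMap.congr_fun h2 (eT ⟨t, ht⟩)
    rw [he, Module.End.one_apply] at h3
    rw [heT, Module.End.one_apply] at h4
    rw [map_one, Module.End.one_apply, map_add]
    congr 1
    · exact congrArg Subtype.val (e.injective h3)
    · exact congrArg Subtype.val (eT.injective h4)
  obtain ⟨P⟩ : Nonempty (Sylow p G) := inferInstance
  refine good_of_exists (P := P) hR ?_
  obtain ⟨P', hP'⟩ := (P.isPGroup'.map f).exists_le_sylow
  have h1 : Nat.card ((P : Subgroup G).map f) ≤ p * Nat.card (core p (Im σ)) :=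
    (Subgroup.card_le_of_le hP').trans (hgood P')
  set g := f.comp (P : Subgroup G).subtype
  have h2 : Nat.card (P : Subgroup G) = Nat.card g.ker * Nat.card ((P : Subgroup G).map f) := by
    rw [← g.ker.card_mul_index, Subgroup.index_ker, show g.range = (P : Subgroup G).map f by
      rw [MonoidHom.range_comp, Subgroup.range_subtype]]
  have h3 : Nat.card g.ker ≤ Nat.card f.ker := Nat.card_le_card_of_injective
    (fun x => ⟨((x : (P : Subgroup G)) : G), x.2⟩)
    fun x y h => Subtype.ext (Subtype.ext (congrArg Subtype.val h :))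
  have h4 : Nat.card R = Nat.card f.ker * Nat.card (core p (Im σ)) := by
    set h := f.comp R.subtype
    rw [← h.ker.card_mul_index, Subgroup.index_ker, show h.range = core p (Im σ) by
      rw [MonoidHom.range_comp, Subgroup.range_subtype, Subgroup.map_comap_eq_self_of_surjective
        (toIm_surjective σ)]]
    congr 1
    exact Nat.card_congr
      { toFun := fun x => ⟨((x : R) : G), x.2⟩
        invFun := fun x => ⟨⟨x, Subgroup.mem_comap.2 (by rw [x.2]; exact one_mem _)⟩, x.2⟩
        left_inv := fun x => rfl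
        right_inv := fun x => rfl }
  rw [h2, h4, ← mul_assoc, mul_comm p, mul_assoc]
  exact Nat.mul_le_mul h3 h1

variable {ρ}

/-- Commuting images of generators give a commutative image. -/
theorem commute_of_gens {H M : Type*} [Group H] [Monoid M] (π : H →* M) {s : Set H}
    (hs : Subgroup.closure s = ⊤) (h : ∀ x ∈ s, ∀ y ∈ s, Commute (π x) (π y)) (a b : H) :
    Commute (π a) (π b) := by
  have key : IsMulCommutative (Subgroup.closure (π.toHomUnits '' s)) :=
    Subgroup.isMulCommutative_closure (by
      rintro _ ⟨x, hx, rfl⟩ _ ⟨y, hy, rfl⟩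
      exact Units.ext (h x hx y hy).eq)
  have hm : ∀ c, π.toHomUnits c ∈ Subgroup.closure (π.toHomUnits '' s) := fun c => by
    rw [← MonoidHom.map_closure, hs]; exact Subgroup.mem_map_of_mem _ (Subgroup.mem_top c)
  exact congrArg Units.val (congrArg Subtype.val (key.is_comm.comm ⟨_, hm a⟩ ⟨_, hm b⟩))

theorem closure_pair_le_centralizer {a b x : G} (ha : Commute a x) (hb : Commute b x) :
    Subgroup.closure ({a, b} : Set G) ≤ Subgroup.centralizer ({x} : Set G) := by
  rw [Subgroup.closure_le]
  rintro y (rfl | rfl)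
  · exact Subgroup.mem_centralizer_singleton_iff.2 ha.eq
  · exact Subgroup.mem_centralizer_singleton_iff.2 hb.eq

/-- An element of order `p` with an eigenspace of dimension at least 9 lies in the core. -/
theorem mem_core_of_big (hρ : Function.Injective ρ) (hIH : IH p n) (hn : n ≤ 16) (hp19 : 19 ≤ p)
    {v : G} (hv : v ^ p = 1) {μ : ℂ}
    (h9 : 9 ≤ Module.finrank ℂ (Module.End.eigenspace (ρ v) μ)) : v ∈ core p G := by
  classical
  have key : ∀ g : G, Commute v (g * v * g⁻¹) := by
    intro g
    by_contra hnc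
    set v' := g * v * g⁻¹ with hv'def
    set H := Subgroup.closure ({v, v'} : Set G)
    have hvH : v ∈ H := Subgroup.subset_closure (Set.mem_insert _ _)
    have hv'H : v' ∈ H := Subgroup.subset_closure (Set.mem_insert_of_mem _ rfl)
    have hv' : v' ^ p = 1 := by rw [hv'def, conj_pow, hv, mul_one, mul_inv_cancel]
    have hgen : Gen p H := gen_closure (by
      rintro x (rfl | rfl)
      · exact PElem.of_pow_p hv
      · exact PElem.of_pow_p hv')
    set ρH : Representation ℂ H (Fin n → ℂ) := ρ.comp H.subtype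
    set E := Module.End.eigenspace (ρ v) μ
    set E' := E.map (ρ g)
    have hE' : ∀ x ∈ E', ρ v' x = μ • x := by
      rintro _ ⟨y, hy, rfl⟩
      rw [hv'def, ← Module.End.mul_apply, ← map_mul, show g * v * g⁻¹ * g = g * v by group, map_mul,
        Module.End.mul_apply, Module.End.mem_eigenspace_iff.1 hy, map_smul]
    have hfin : Module.finrank ℂ E' = Module.finrank ℂ E :=
      (Submodule.equivMapOfInjective _ (injective_rep ρ g) E).finrank_eq.symm
    set S := E ⊓ E'
    have hScl : ∀ h ∈ H, ∀ x ∈ S, ρ h x ∈ S := by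
      let M : Submonoid G :=
        { carrier := {h | ∀ x ∈ S, ρ h x ∈ S}
          one_mem' := fun x hx => by rwa [map_one, Module.End.one_apply]
          mul_mem' := fun {a b} ha hb x hx => by
            rw [map_mul, Module.End.mul_apply]; exact ha _ (hb x hx) }
      intro h hh
      induction hh using Subgroup.closure_induction with
      | mem y hy =>
        rcases hy with rfl | rfl
        · intro x hx
          rw [Module.End.mem_eigenspace_iff.1 hx.1]
          exact S.smul_mem _ hx
        · intro x hx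
          rw [hE' x hx.2]
          exact S.smul_mem _ hx
      | one => exact M.one_mem
      | mul a b _ _ ha hb => exact M.mul_mem ha hb
      | inv a _ ha =>
        show a⁻¹ ∈ M
        obtain ⟨k, hk⟩ := (mem_powers_iff_mem_zpowers (x := a) (y := a⁻¹)).2
          (Subgroup.inv_mem _ (Subgroup.mem_zpowers a))
        rw [← hk]
        exact M.pow_mem ha k
    have hns : ∀ c : ℂ, ρ v ≠ c • LinearMap.id := fun c hc => by
      have hA : ∀ A : Module.End ℂ (Fin n → ℂ),
          (c • LinearMap.id : Module.End ℂ (Fin n → ℂ)) * A = A * c • LinearMap.id := fun A => by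
        ext y
        simp [Module.End.mul_apply]
      exact hnc (hρ ((map_mul ρ v v').trans (((congrArg (· * ρ v') hc).trans
        ((hA _).trans (congrArg (ρ v' * ·) hc.symm))).trans (map_mul ρ v' v).symm)))
    have hnS : ¬ ρH.IsIrreducible := by
      intro hirr
      haveI := hirr
      rcases eq_bot_or_eq_top (⟨S, fun h x hx => hScl h h.2 x hx⟩ : Subrepresentation ρH) with h | h
      · have h1 : S = ⊥ := congrArg Subrepresentation.toSubmodule h
        have h2 := Submodule.finrank_sup_add_finrank_inf_eq E E'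
        have h3 := (E ⊔ E').finrank_le
        rw [show E ⊓ E' = ⊥ from h1, finrank_bot] at h2
        rw [Module.finrank_fin_fun] at h3
        omega
      · have h1 : S = ⊤ := congrArg Subrepresentation.toSubmodule h
        exact hns μ (LinearMap.ext fun x => Module.End.mem_eigenspace_iff.1 (h1.ge Submodule.mem_top).1)
    obtain ⟨W, T, hWT, hW, hWnc, hWlt, hW9, -⟩ := exists_component ρH hIH hn hp19 hgen hnS
      ⟨⟨v, hvH⟩, ⟨v', hv'H⟩, fun h => hnc (hρ h)⟩
    haveI := hW
    have hnsW : ∀ c : ℂ, ∃ x ∈ W.toSubmodule, ρH ⟨v, hvH⟩ x ≠ c • x := by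
      intro c
      by_contra hcon
      push Not at hcon
      obtain ⟨a, b, x, hx, hne⟩ := hWnc
      refine hne ?_
      have hc1 : W.toRepresentation ⟨v, hvH⟩ = c • LinearMap.id :=
        LinearMap.ext fun y => Subtype.ext (hcon y y.2)
      have hvc : ∀ T : Module.End ℂ W.toSubmodule,
          Commute (W.toRepresentation ⟨v, hvH⟩) T := fun T => by
        rw [hc1]; ext y; simp [Module.End.mul_apply]
      have h := commute_of_gens W.toRepresentation (Subgroup.closure_closure_coe_preimage
        (k := ({v, v'} : Set G))) (by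
          rintro ⟨y, hy⟩ (h | h) ⟨z, hz⟩ (h' | h')
          · rw [show (⟨y, hy⟩ : H) = ⟨v, hvH⟩ from Subtype.ext h]
            exact hvc _
          · rw [show (⟨y, hy⟩ : H) = ⟨v, hvH⟩ from Subtype.ext h]
            exact hvc _
          · rw [show (⟨z, hz⟩ : H) = ⟨v, hvH⟩ from Subtype.ext h']
            exact (hvc _).symm
          · rw [show (⟨y, hy⟩ : H) = ⟨z, hz⟩ from Subtype.ext
              ((Set.mem_singleton_iff.1 h).trans (Set.mem_singleton_iff.1 h').symm)]
            exact Commute.refl _) a b
      rw [map_mul, map_mul]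
      exact congrArg Subtype.val (LinearMap.congr_fun h.eq ⟨x, hx⟩)
    obtain ⟨h2, h1⟩ := (piece ρH hIH (by omega) hp19 hgen W hWlt hWnc).2.1 ⟨v, hvH⟩
      (Subtype.ext hv) hnsW μ
    have h3 := Submodule.finrank_sup_add_finrank_inf_eq E W.toSubmodule
    have h4 := (E ⊔ W.toSubmodule).finrank_le
    rw [Module.finrank_fin_fun] at h4
    have e1 : Module.End.eigenspace (ρH ⟨v, hvH⟩) μ = E := rfl
    rw [e1] at h1 h2
    omega
  set N := Subgroup.normalClosure ({v} : Set G)
  have hN : IsPGroup p N := by
    have hg : Gen p (Subgroup.closure (Group.conjugatesOfSet ({v} : Set G))) := gen_closure (by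
      intro x hx
      obtain ⟨a, ha, hax⟩ := Group.mem_conjugatesOfSet_iff.1 hx
      obtain ⟨c, rfl⟩ := isConj_iff.1 hax
      rw [Set.mem_singleton_iff.1 ha]
      exact (PElem.of_pow_p hv).conj c)
    haveI : IsMulCommutative (Subgroup.closure (Group.conjugatesOfSet ({v} : Set G))) := by
      refine Subgroup.isMulCommutative_closure ?_
      intro x hx y hy
      obtain ⟨a, ha, hax⟩ := Group.mem_conjugatesOfSet_iff.1 hx
      obtain ⟨b, hb, hby⟩ := Group.mem_conjugatesOfSet_iff.1 hy
      obtain ⟨c, rfl⟩ := isConj_iff.1 hax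
      obtain ⟨c', rfl⟩ := isConj_iff.1 hby
      rw [Set.mem_singleton_iff.1 ha, Set.mem_singleton_iff.1 hb]
      have h1 := (key (c⁻¹ * c')).map (MulAut.conj c).toMonoidHom
      simpa [mul_assoc] using h1.eq
    exact isPGroup_of_forall fun x hx => by
      have := (hg.isPGroup fun a b => mul_comm' a b) ⟨x, hx⟩
      exact this.map (Subgroup.subtype _)
  exact le_core hN (Subgroup.subset_normalClosure (Set.mem_singleton v))

end CfsgLib.DegreeSixteen
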