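import Cfsg.Agent.DegreeSixteen.Spectrum

/-!
# The shape of the spectrum, and its consequences in degree at most 16
-/

set_option autoImplicit false
set_option linter.style.haveILetI false
set_option linter.unusedSectionVars false

namespace CfsgLib.DegreeSixteen

open Cfsg CfsgLib.Characters CfsgLib.SmallDegreeP

universe u

variable {p : ℕ} [hp : Fact p.Prime] {G : Type u} [Group G] [Fintype G] {d : ℕ}
  (ρ : Representation ℂ G (Fin d → ℂ)) [ρ.IsIrreducible] {u : G}

theorem false_of_mult_eq_zero (hinj : Function.Injective ρ) (hu : orderOf u = p)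
    (h : ∀ l : ZMod p, l ≠ 0 → mult ρ u l = 0) : False := by
  have hup : u ^ p = 1 := hu ▸ pow_orderOf_eq_one u
  have h0 : proj (matRep ρ) u (0 : ZMod p) = 1 := by
    rw [← sum_proj (p := p) (matRep ρ) u,
      Finset.sum_eq_single (0 : ZMod p) (fun l _ hl => proj_eq_zero_of_mult ρ hup (h l hl)) (by simp)]
  have h1 := rho_mul_proj (matRep ρ) u hup 1 0
  rw [upow_one, h0, mul_one, mul_zero, AddChar.map_zero_eq_one, one_smul] at h1
  have h2 : ρ u = 1 := by rw [← toLin_matRep, h1, map_one]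
  rw [hinj (h2.trans (map_one ρ).symm), orderOf_one] at hu
  exact hp.out.ne_one hu.symm

open Classical in
/-- The shape of the spectrum. -/
theorem shape (hinj : Function.Injective ρ) (hsq : ¬ p ^ 2 ∣ Nat.card G) (hgen : Gen p G)
    (hcore : core p G = ⊥) (hu : orderOf u = p) (hd : d + 1 < p) :
    ∃ Ω : Finset (ZMod p), 0 ∉ Ω ∧ Ω.card = Nat.card (auts u (hu ▸ pow_orderOf_eq_one u)) ∧
      2 * Ω.card ≤ p - 1 ∧ Ω.card ∣ p - 1 ∧
      (∃ l0 ∈ Ω, ∀ l, l ∈ Ω ↔ ∃ a ∈ auts u (hu ▸ pow_orderOf_eq_one u),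
        l = ((a : (ZMod p)ˣ) : ZMod p) * l0) ∧
      ((mult ρ u (0 : ZMod p) = 1 ∧ d + Ω.card = p ∧
          ∀ l : ZMod p, mult ρ u l = if l ∈ Ω then 0 else 1) ∨
        (mult ρ u (0 : ZMod p) = 0 ∧ p + 2 < 4 * Ω.card ∧
          ∃ m, d = Ω.card * m ∧ ∀ l : ZMod p, mult ρ u l = if l ∈ Ω then m else 0)) := by
  have hup : u ^ p = 1 := hu ▸ pow_orderOf_eq_one u
  have hp2 := hp.out.two_le
  have hsum := sum_mult ρ hup
  have hallNot : ¬ ∀ m m' : ZMod p, m ≠ 0 → m' ≠ 0 → mult ρ u m = mult ρ u m' := by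
    intro hall
    have h1 : (1 : ZMod p) ≠ 0 := one_ne_zero
    have hcard : (Finset.univ.erase (0 : ZMod p)).card = p - 1 := by
      rw [Finset.card_erase_of_mem (Finset.mem_univ _), Finset.card_univ, ZMod.card]
    rw [← Finset.add_sum_erase _ _ (Finset.mem_univ (0 : ZMod p)),
      Finset.sum_congr rfl (g := fun _ => mult ρ u (1 : ZMod p)) fun l hl =>
        hall l 1 (Finset.ne_of_mem_erase hl) h1, Finset.sum_const, hcard, smul_eq_mul] at hsum
    refine false_of_mult_eq_zero ρ hinj hu fun l hl => ?_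
    rw [hall l 1 hl h1]
    by_contra hne
    have := Nat.le_mul_of_pos_right (p - 1) (Nat.pos_of_ne_zero hne)
    omega
  obtain ⟨l0, hl0⟩ := exists_special_orbit ρ hsq hu (by omega)
  set A := auts u (hu ▸ pow_orderOf_eq_one u)
  letI := Fintype.ofFinite A
  set Ω : Finset (ZMod p) :=
    Finset.univ.image fun a : A => ((a : (ZMod p)ˣ) : ZMod p) * l0 with hΩ
  have hmem : ∀ l, l ∈ Ω ↔ ∃ a ∈ A, l = ((a : (ZMod p)ˣ) : ZMod p) * l0 := fun l => by
    simp [hΩ, eq_comm]
  have hout : ∀ l, l ∉ Ω → mult ρ u l = mult ρ u (0 : ZMod p) := fun l hl =>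
    (hl0 l fun a ha he => hl ((hmem l).2 ⟨a, ha, he⟩)).resolve_right hallNot
  have hne : l0 ≠ 0 := by
    rintro rfl
    refine hallNot fun m m' hm hm' => ?_
    have h : ∀ l : ZMod p, l ≠ 0 → l ∉ Ω := fun l hl hlΩ => by
      obtain ⟨a, -, he⟩ := (hmem l).1 hlΩ
      exact hl (by rw [he, mul_zero])
    rw [hout m (h m hm), hout m' (h m' hm')]
  have h0Ω : (0 : ZMod p) ∉ Ω := fun h => by
    obtain ⟨a, -, he⟩ := (hmem 0).1 h
    exact hne ((Units.mul_right_eq_zero (a : (ZMod p)ˣ)).1 he.symm)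
  have hcardΩ : Ω.card = Nat.card A := by
    rw [hΩ, Finset.card_image_of_injective _ (fun a b e =>
      Subtype.ext (Units.ext (mul_right_cancel₀ hne e))), Finset.card_univ, Nat.card_eq_fintype_card]
  have hin : ∀ l ∈ Ω, mult ρ u l = mult ρ u l0 := fun l hl => by
    obtain ⟨a, ha, rfl⟩ := (hmem l).1 hl
    exact mult_mul ρ hup ha l0
  have hdvd : Ω.card ∣ p - 1 := hcardΩ ▸ card_auts_dvd u hup
  have hle : 2 * Ω.card ≤ p - 1 := by
    obtain ⟨t, ht⟩ := hdvd
    rcases Nat.lt_or_ge t 2 with h | h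
    · exfalso
      have ht1 : t = 1 := by
        interval_cases t
        · omega
        · rfl
      subst ht1
      rw [mul_one] at ht
      have hall : ∀ l : ZMod p, l ≠ 0 → l ∈ Ω := fun l hl => by
        have he : Ω = Finset.univ.erase 0 := Finset.eq_of_subset_of_card_le
          (fun x hx => Finset.mem_erase.2 ⟨fun e => h0Ω (e ▸ hx), Finset.mem_univ _⟩)
          (by rw [Finset.card_erase_of_mem (Finset.mem_univ _), Finset.card_univ, ZMod.card, ← ht])
        rw [he]
        exact Finset.mem_erase.2 ⟨hl, Finset.mem_univ _⟩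
      exact hallNot fun m m' hm hm' => by rw [hin m (hall m hm), hin m' (hall m' hm')]
    · rw [ht, mul_comm]
      exact Nat.mul_le_mul_left _ h
  set m0 := mult ρ u (0 : ZMod p)
  set m1 := mult ρ u l0
  have htot : (p - Ω.card) * m0 + Ω.card * m1 = d := by
    rw [← hsum, ← Finset.sum_add_sum_compl Ω, Finset.sum_congr rfl hin, Finset.sum_const, smul_eq_mul,
      Finset.sum_congr (s₁ := Ωᶜ) rfl (g := fun _ => m0) fun l hl =>
        hout l (Finset.mem_compl.1 hl), Finset.sum_const, smul_eq_mul, Finset.card_compl, ZMod.card,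
      add_comm]
  refine ⟨Ω, h0Ω, hcardΩ, hle, hdvd, ⟨l0, (hmem l0).2 ⟨1, one_mem _, by simp⟩, hmem⟩, ?_⟩
  have hite : ∀ l, mult ρ u l = if l ∈ Ω then m1 else m0 := fun l => by
    split_ifs with h
    · exact hin l h
    · exact hout l h
  rcases (show m0 = 0 ∨ m0 = 1 ∨ 2 ≤ m0 by omega) with h | h | h
  · refine Or.inr ⟨h, ?_, m1, ?_, by simpa only [h] using hite⟩
    · -- the orbit bound
      obtain ⟨S, Q, Q', σW, hSu, hSσ, hQQ', hQ'Q, hσ, -⟩ :=
        exists_ctx ρ hinj hsq hgen hcore hu (matRep ρ) (MonoidHom.id G) (fun g => rfl)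
      subst hSu
      have hrep : ∀ g, S.rep g = Q' * matRep ρ g * Q := fun g => by
        rw [S.rep_apply, hSσ, MonoidHom.comp_apply, hσ]
        rfl
      have hproj : ∀ l : ZMod p, proj S.rep S.u l = Q' * proj (matRep ρ) S.u l * Q := fun l => by
        simp only [proj, hrep, Matrix.mul_smul, Matrix.smul_mul, Finset.mul_sum, Finset.sum_mul]
      have hO : S.orbSum 1 l0 = 1 := by
        rw [S.orbSum_eq]
        simp only [MonoidHom.one_apply, Units.val_one, one_smul]
        rw [← Finset.sum_image (f := fun l => proj S.rep S.u l) fun a _ b _ e =>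
          Subtype.ext (Units.ext (mul_right_cancel₀ hne e))]
        rw [← sum_proj (p := p) S.rep S.u]
        refine Finset.sum_subset (Finset.subset_univ _) fun l _ hl => ?_
        rw [hproj, proj_eq_zero_of_mult ρ hup (by rw [hout l (by simpa [hΩ] using hl)]; exact h),
          mul_zero, zero_mul]
      have hp0 : proj S.rep S.u l0 ≠ 0 := by
        intro h1
        have hz : proj (matRep ρ) S.u l0 = 0 := by
          calc proj (matRep ρ) S.u l0 = Q * (Q' * proj (matRep ρ) S.u l0 * Q) * Q' := by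
                rw [← mul_assoc Q, ← mul_assoc Q, hQQ', one_mul, mul_assoc, hQQ', mul_one]
            _ = 0 := by rw [← hproj, h1, mul_zero, zero_mul]
        refine false_of_mult_eq_zero ρ hinj hu fun l hl => ?_
        rw [hite, h, show m1 = 0 from mult_eq_zero_of_proj ρ hup hz]
        split_ifs <;> rfl
      rw [hcardΩ]
      exact S.lt_four_mul_card hne hp0 hO
    · rw [h, mul_zero, zero_add] at htot
      exact htot.symm
  · rw [h, mul_one] at htot
    have hm1 : m1 = 0 := by
      by_contra h1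
      have := Nat.le_mul_of_pos_right Ω.card (Nat.pos_of_ne_zero h1)
      omega
    exact Or.inl ⟨h, by rw [hm1, mul_zero, add_zero] at htot; omega, by simpa only [h, hm1] using hite⟩
  · exfalso
    have := Nat.mul_le_mul_left (p - Ω.card) h
    omega

/-- The bounds in degree at most 16. -/
theorem spectrum (hinj : Function.Injective ρ) (hsq : ¬ p ^ 2 ∣ Nat.card G) (hgen : Gen p G)
    (hcore : core p G = ⊥) (hu : orderOf u = p) (hp19 : 19 ≤ p) (hd : d ≤ 16) :
    9 ≤ d ∧ (∀ μ : ℂ, Module.finrank ℂ (Module.End.eigenspace (ρ u) μ) ≤ 2 ∧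
      (d ≤ 9 → Module.finrank ℂ (Module.End.eigenspace (ρ u) μ) ≤ 1)) ∧
      Module.finrank ℂ (Module.End.eigenspace (ρ u) 1) + 9 ≤ d := by
  have hup : u ^ p = 1 := hu ▸ pow_orderOf_eq_one u
  have hone : Module.finrank ℂ (Module.End.eigenspace (ρ u) 1) = mult ρ u (0 : ZMod p) := by
    rw [mult, AddChar.map_zero_eq_one]
  obtain ⟨Ω, -, -, hle, -, -, ⟨h0, hdp, hm⟩ | ⟨h0, h4, m, hdm, hm⟩⟩ :=
    shape ρ hinj hsq hgen hcore hu (by omega)
  · refine ⟨by omega, fun μ => ?_, by omega⟩
    rcases finrank_eigenspace_cases ρ hup μ with h | ⟨l, -, h⟩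
    · omega
    · have : mult ρ u l ≤ 1 := by rw [hm]; split_ifs <;> omega
      omega
  · have hd9 : 9 ≤ d := by
      haveI := Fintype.ofFinite G
      have hdiv : p ∣ Nat.card G := hu ▸ orderOf_dvd_natCard u
      have h := SmallDegreeP.le_two_mul_degree hdiv hsq (fun H hH hH' => by
        haveI := hH
        have h2 := le_core (p := p) (IsPGroup.of_card (n := 1) (by rw [hH', pow_one]) :
          IsPGroup p H)
        rw [hcore, le_bot_iff] at h2
        rw [h2, Subgroup.card_bot] at hH'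
        omega) (isCharacter_character ρ) fun g hg => hinj (by
        rw [map_one]
        rw [Representation.char_one] at hg
        exact (char_eq_finrank_iff ρ g).1 hg)
      rw [Cfsg.charDegree, Representation.char_one, Complex.natCast_re, Nat.floor_natCast,
        Module.finrank_fin_fun] at h
      omega
    refine ⟨hd9, fun μ => ?_, by omega⟩
    have hm2 : m ≤ 2 := by
      by_contra h
      have := Nat.mul_le_mul_left Ω.card (show 3 ≤ m by omega)
      omega
    rcases finrank_eigenspace_cases ρ hup μ with h | ⟨l, -, h⟩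
    · omega
    · have h1 : mult ρ u l ≤ m := by rw [hm]; split_ifs <;> omega
      refine ⟨by omega, fun h9 => ?_⟩
      rcases (show m ≤ 1 ∨ m = 2 by omega) with h2 | h2
      · omega
      · subst h2; omega

end CfsgLib.DegreeSixteen
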