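import Cfsg.Agent.DegreeSixteen.Modular
import Cfsg.Agent.DefectOne.Family
import Cfsg.Agent.BrauerOrderP.Values

/-!
# The eigenvalues of an element of order `p`

For a faithful irreducible representation of degree less than `p - 1` of a group generated by its
`p`-elements with Sylow subgroup of order `p`, the eigenvalue one occurs at most once; if it does
not occur, the others form one orbit under the normalizer; if it occurs, the others are the
nontrivial ones outside one orbit, once each.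
-/

set_option autoImplicit false
set_option linter.style.haveILetI false
set_option linter.unusedSectionVars false

namespace CfsgLib.DegreeSixteen

open Cfsg CfsgLib.Characters CfsgLib.SmallDegreeP
open scoped ComplexConjugate

universe u

variable {p : ℕ} [hp : Fact p.Prime] {G : Type u} [Group G] {d : ℕ}
  (ρ : Representation ℂ G (Fin d → ℂ))

/-- The representation by matrices. -/
noncomputable def matRep : G →* Matrix (Fin d) (Fin d) ℂ :=
  (LinearMap.toMatrixAlgEquiv' : _ ≃ₐ[ℂ] Matrix (Fin d) (Fin d) ℂ).toMonoidHom.comp ρ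

theorem toLin_matRep (g : G) : Matrix.toLinAlgEquiv' (matRep ρ g) = ρ g :=
  Matrix.toLinAlgEquiv'_toMatrixAlgEquiv' _

/-- The multiplicity of an eigenvalue of an element of order `p`. -/
noncomputable def mult (u : G) (l : ZMod p) : ℕ :=
  Module.finrank ℂ (Module.End.eigenspace (ρ u) (ZMod.stdAddChar l : ℂ))

variable {u : G}

theorem std_pow (i l : ZMod p) : (ZMod.stdAddChar l : ℂ) ^ i.val = ZMod.stdAddChar (i * l) := by
  rw [← AddChar.map_nsmul_eq_pow, nsmul_eq_mul, ZMod.natCast_zmod_val]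

theorem toLin_proj (l : ZMod p) : Matrix.toLinAlgEquiv' (proj (matRep ρ) u l) =
    (p : ℂ)⁻¹ • ∑ i : ZMod p, (ZMod.stdAddChar (-(i * l)) : ℂ) • ρ (upow u i) := by
  rw [proj, map_smul, map_sum]
  simp only [map_smul, toLin_matRep]

theorem isProj_proj (hup : u ^ p = 1) (l : ZMod p) :
    LinearMap.IsProj (Module.End.eigenspace (ρ u) (ZMod.stdAddChar l : ℂ))
      (Matrix.toLinAlgEquiv' (proj (matRep ρ) u l)) := by
  refine ⟨fun x => ?_, fun x hx => ?_⟩
  · rw [Module.End.mem_eigenspace_iff, ← Module.End.mul_apply, ← toLin_matRep ρ u, ← map_mul]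
    have h := rho_mul_proj (matRep ρ) u hup 1 l
    rw [upow_one, one_mul] at h
    rw [h, map_smul]
    rfl
  · rw [Module.End.mem_eigenspace_iff] at hx
    have hpow : ∀ i : ℕ, ρ (u ^ i) x = (ZMod.stdAddChar l : ℂ) ^ i • x := by
      intro i
      induction i with
      | zero => rw [pow_zero, map_one, pow_zero, one_smul]; rfl
      | succ i ih => rw [pow_succ, map_mul, Module.End.mul_apply, hx, map_smul, ih, smul_smul,
          ← pow_succ']
    rw [toLin_proj, LinearMap.smul_apply, LinearMap.sum_apply]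
    simp only [LinearMap.smul_apply, upow, hpow, std_pow, smul_smul, ← AddChar.map_add_eq_mul,
      neg_add_cancel, AddChar.map_zero_eq_one, one_smul, Finset.sum_const, Finset.card_univ,
      ZMod.card]
    rw [← Nat.cast_smul_eq_nsmul ℂ, smul_smul,
      inv_mul_cancel₀ (Nat.cast_ne_zero.2 hp.out.ne_zero), one_smul]

theorem trace_proj_eq (hup : u ^ p = 1) (l : ZMod p) :
    Matrix.trace (proj (matRep ρ) u l) = (mult ρ u l : ℂ) := by
  rw [← Matrix.trace_toLin'_eq]
  exact (isProj_proj ρ hup l).trace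

theorem proj_eq_zero_of_mult (hup : u ^ p = 1) {l : ZMod p} (h : mult ρ u l = 0) :
    proj (matRep ρ) u l = 0 := by
  refine (Matrix.toLinAlgEquiv' (R := ℂ) (n := Fin d)).injective (LinearMap.ext fun x => ?_)
  have h1 := (isProj_proj ρ hup l).map_mem x
  rw [Submodule.finrank_eq_zero.1 h, Submodule.mem_bot] at h1
  rw [h1, map_zero]
  rfl

theorem mult_eq_zero_of_proj (hup : u ^ p = 1) {l : ZMod p} (h : proj (matRep ρ) u l = 0) :
    mult ρ u l = 0 := by
  have h1 := trace_proj_eq ρ hup l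
  rw [h, Matrix.trace_zero] at h1
  exact_mod_cast h1.symm

theorem sum_mult (hup : u ^ p = 1) : ∑ l : ZMod p, mult ρ u l = d := by
  apply Nat.cast_injective (R := ℂ)
  push_cast
  simp only [← trace_proj_eq ρ hup]
  rw [← Matrix.trace_sum, sum_proj, Matrix.trace_one, Fintype.card_fin]

/-- Conjugation by the normalizer preserves the multiplicities. -/
theorem mult_mul (hup : u ^ p = 1) {a : (ZMod p)ˣ} (ha : a ∈ auts u hup) (l : ZMod p) :
    mult ρ u ((a : ZMod p) * l) = mult ρ u l := by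
  obtain ⟨g, hg⟩ := ha
  apply Nat.cast_injective (R := ℂ)
  rw [← trace_proj_eq ρ hup, ← trace_proj_eq ρ hup]
  have h := congrArg Matrix.trace (conj_proj (matRep ρ) u hup hg ((a : ZMod p) * l))
  rw [← mul_assoc (((a⁻¹ : (ZMod p)ˣ) : ZMod p)), Units.inv_mul, one_mul, Matrix.trace_mul_comm,
    ← mul_assoc, ← map_mul, inv_mul_cancel, map_one, one_mul] at h
  exact h

theorem isPrimitiveRoot_std : IsPrimitiveRoot (ZMod.stdAddChar (1 : ZMod p) : ℂ) p := by
  haveI : NeZero p := ⟨hp.out.ne_zero⟩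
  have hord : orderOf (ZMod.stdAddChar (1 : ZMod p) : ℂ) = p := orderOf_eq_prime
    (by rw [← AddChar.map_nsmul_eq_pow, nsmul_eq_mul, ZMod.natCast_self, zero_mul,
      AddChar.map_zero_eq_one])
    fun h0 => one_ne_zero (ZMod.injective_stdAddChar (h0.trans (AddChar.map_zero_eq_one _).symm) :
      (1 : ZMod p) = 0)
  have h := IsPrimitiveRoot.orderOf (ZMod.stdAddChar (1 : ZMod p) : ℂ)
  rwa [hord] at h

theorem finrank_eigenspace_cases (hup : u ^ p = 1) (μ : ℂ) :
    Module.finrank ℂ (Module.End.eigenspace (ρ u) μ) = 0 ∨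
      ∃ l : ZMod p, μ = ZMod.stdAddChar l ∧
        Module.finrank ℂ (Module.End.eigenspace (ρ u) μ) = mult ρ u l := by
  by_cases h : Module.End.eigenspace (ρ u) μ = ⊥
  · exact Or.inl (by rw [h, finrank_bot])
  obtain ⟨x, hx, hx0⟩ := Submodule.exists_mem_ne_zero_of_ne_bot h
  rw [Module.End.mem_eigenspace_iff] at hx
  have hpow : ∀ i : ℕ, ρ (u ^ i) x = μ ^ i • x := by
    intro i
    induction i with
    | zero => rw [pow_zero, map_one, pow_zero, one_smul]; rfl
    | succ i ih => rw [pow_succ, map_mul, Module.End.mul_apply, hx, map_smul, ih, smul_smul,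
        ← pow_succ']
  have h1 := hpow p
  rw [hup, map_one, Module.End.one_apply] at h1
  have hμ : μ ^ p = 1 := smul_left_injective ℂ hx0 (show _ • x = _ • x by rw [← h1, one_smul])
  haveI : NeZero p := ⟨hp.out.ne_zero⟩
  have hprim := isPrimitiveRoot_std (p := p)
  obtain ⟨i, -, hi⟩ := hprim.eq_pow_of_pow_eq_one hμ
  refine Or.inr ⟨(i : ZMod p), ?_, ?_⟩
  · rw [← hi, ← AddChar.map_nsmul_eq_pow, nsmul_one]
  · rw [mult, ← hi, ← AddChar.map_nsmul_eq_pow, nsmul_one]

variable [Fintype G] [ρ.IsIrreducible]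

open Classical in
/-- The difference of two multiplicities through the coefficients at the characters of `P`. -/
theorem mult_zero_sub (L : DefectOne.Local p G) (hu : u ∈ (L.P : Subgroup G)) (hu1 : u ≠ 1)
    (l : ZMod p) (lam : L.Lam) (hlam : ∀ i : ZMod p,
      (lam.1 ⟨upow u i, pow_mem hu _⟩ : ℂ) = ZMod.stdAddChar (i * l)) :
    (mult ρ u (0 : ZMod p) : ℂ) - mult ρ u l =
      ∑ φ : IrrCharacter L.K, (φ : L.K → ℂ) 1 * L.cvec (irrOf ρ) (lam, φ) := by
  haveI := Fintype.ofFinite L.K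
  haveI := Fintype.ofFinite (L.P : Subgroup G)
  letI := Fintype.ofFinite L.PK
  have hup : u ^ p = 1 := L.pow_p hu
  let ι : ZMod p → (L.P : Subgroup G) := fun i => ⟨upow u i, pow_mem hu _⟩
  have hι : Function.Bijective ι := by
    refine (Fintype.bijective_iff_injective_and_card ι).2 ⟨fun i j h => ?_, ?_⟩
    · have h' : u ^ i.val = u ^ j.val := congrArg Subtype.val h
      rw [pow_inj_mod, L.orderOf_of_mem hu hu1, Nat.mod_eq_of_lt (ZMod.val_lt i),
        Nat.mod_eq_of_lt (ZMod.val_lt j)] at h'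
      exact ZMod.val_injective p h'
    · rw [ZMod.card, ← Nat.card_eq_fintype_card, L.card_P]
  have hK : ∀ k : L.K, ∑ φ : IrrCharacter L.K, (φ : L.K → ℂ) 1 * conj ((φ : L.K → ℂ) k) =
      if k = 1 then (Nat.card L.K : ℂ) else 0 := by
    intro k
    split_ifs with hk
    · subst hk
      rw [sum_irr_mul_conj]
      norm_cast
      exact Nat.card_congr (Equiv.subtypeUnivEquiv fun g => by simp)
    · refine sum_irr_mul_conj_of_not_isConj fun hcj => hk ?_
      obtain ⟨c, hc⟩ := isConj_iff.1 hcj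
      rw [← hc]; simp
  have hrhs : ∑ φ : IrrCharacter L.K, (φ : L.K → ℂ) 1 * L.cvec (irrOf ρ) (lam, φ) =
      (p : ℂ)⁻¹ * ∑ v : (L.P : Subgroup G), ρ.character v * (1 - conj (lam.1 v : ℂ)) := by
    have h2 : ∀ φ : IrrCharacter L.K, (φ : L.K → ℂ) 1 * L.cvec (irrOf ρ) (lam, φ) =
        (p : ℂ)⁻¹ * (Nat.card L.K : ℂ)⁻¹ * ∑ k : L.K, (∑ v : (L.P : Subgroup G),
          ρ.character ((v : G) * k) * (1 - conj (lam.1 v : ℂ))) *
            ((φ : L.K → ℂ) 1 * conj ((φ : L.K → ℂ) k)) := by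
      intro φ
      rw [L.cvec_eq, Cfsg.classInner, L.sum_PK, Finset.sum_comm, L.card_PK, Nat.cast_mul, mul_inv,
        Finset.mul_sum, Finset.mul_sum, Finset.mul_sum]
      refine Finset.sum_congr rfl fun k _ => ?_
      rw [Finset.sum_mul, Finset.mul_sum, Finset.mul_sum, Finset.mul_sum]
      refine Finset.sum_congr rfl fun v _ => ?_
      simp only [DefectOne.Local.res, DefectOne.Local.psi, DefectOne.Local.emb_apply, map_mul,
        map_sub, map_one]
      rw [show ((irrOf ρ : IrrCharacter G) : G → ℂ) = ρ.character from rfl]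
      ring
    simp only [h2, ← Finset.mul_sum]
    rw [Finset.sum_comm]
    simp only [← Finset.mul_sum, hK, mul_ite, mul_zero, Finset.sum_ite_eq', Finset.mem_univ, if_true,
      OneMemClass.coe_one, mul_one]
    have : (Nat.card L.K : ℂ) ≠ 0 := Nat.cast_ne_zero.2 Nat.card_pos.ne'
    field_simp
  rw [hrhs, ← trace_proj_eq ρ hup, ← trace_proj_eq ρ hup, proj, proj, Matrix.trace_smul,
    Matrix.trace_smul, smul_eq_mul, smul_eq_mul, ← mul_sub, Matrix.trace_sum, Matrix.trace_sum,
    ← Finset.sum_sub_distrib]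
  congr 1
  refine Fintype.sum_equiv (Equiv.ofBijective ι hι) _ _ fun i => ?_
  simp only [Equiv.ofBijective_apply, Matrix.trace_smul, smul_eq_mul, mul_zero, neg_zero,
    AddChar.map_zero_eq_one, one_mul]
  have hc : Matrix.trace (matRep ρ (upow u i)) = ρ.character (upow u i) := by
    rw [← Matrix.trace_toLin'_eq]
    exact congrArg (LinearMap.trace ℂ (Fin d → ℂ)) (toLin_matRep ρ (upow u i))
  rw [hc, show conj (lam.1 (ι i) : ℂ) = ZMod.stdAddChar (-(i * l)) by
    rw [hlam, AddChar.map_neg_eq_conj]]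
  ring

theorem exists_lam (L : DefectOne.Local p G) (hu : u ∈ (L.P : Subgroup G)) (hu1 : u ≠ 1) :
    ∀ l : ZMod p, l ≠ 0 → ∃ lam : L.Lam, ∀ i : ZMod p,
      (lam.1 ⟨upow u i, pow_mem hu _⟩ : ℂ) = ZMod.stdAddChar (i * l) := by
  haveI := L.finite_lam
  haveI : NeZero p := ⟨hp.out.ne_zero⟩
  have hup : u ^ p = 1 := L.pow_p hu
  obtain ⟨lam1⟩ : Nonempty L.Lam := by
    refine (Nat.card_pos_iff.1 ?_).1
    rw [L.card_lam]; have := hp.out.two_le; omega
  have hprim := isPrimitiveRoot_std (p := p)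
  let uP : (L.P : Subgroup G) := ⟨u, hu⟩
  have hroot : (lam1.1 uP : ℂ) ^ p = 1 := by
    rw [← Units.val_pow_eq_pow_val, ← map_pow, show uP ^ p = 1 from Subtype.ext hup, map_one,
      Units.val_one]
  obtain ⟨r, -, hr⟩ := hprim.eq_pow_of_pow_eq_one hroot
  have hr' : (lam1.1 uP : ℂ) = ZMod.stdAddChar (r : ZMod p) := by
    rw [← hr, ← AddChar.map_nsmul_eq_pow, nsmul_one]
  have hr0 : (r : ZMod p) ≠ 0 := fun h => by
    rw [h, AddChar.map_zero_eq_one] at hr'
    exact hu1 (congrArg Subtype.val (L.injective_lam lam1 (a₁ := uP) (a₂ := 1)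
      (by rw [map_one]; exact Units.ext hr')))
  intro l hl
  set f := lam1.1 ^ (l / (r : ZMod p)).val with hf
  have hval : ∀ i : ZMod p, (f ⟨upow u i, pow_mem hu _⟩ : ℂ) = ZMod.stdAddChar (i * l) := by
    intro i
    have e1 : (⟨upow u i, pow_mem hu _⟩ : (L.P : Subgroup G)) = uP ^ i.val := Subtype.ext rfl
    rw [e1, map_pow, hf, MonoidHom.pow_apply, ← pow_mul, Units.val_pow_eq_pow_val, hr',
      pow_mul, std_pow, std_pow, div_mul_cancel₀ _ hr0]
  refine ⟨⟨f, fun h => hl ?_⟩, hval⟩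
  have h1 := hval 1
  rw [h, MonoidHom.one_apply, Units.val_one, one_mul] at h1
  exact ZMod.injective_stdAddChar (h1.symm.trans (AddChar.map_zero_eq_one _).symm)

open Classical in
/-- The multiplicities are those of the eigenvalue one away from one orbit. -/
theorem exists_special_orbit (hsq : ¬ p ^ 2 ∣ Nat.card G) (hu : orderOf u = p)
    (hd : d < p) : ∃ l0 : ZMod p, ∀ l : ZMod p,
      (∀ a ∈ auts u (hu ▸ pow_orderOf_eq_one u), l ≠ ((a : (ZMod p)ˣ) : ZMod p) * l0) →
      mult ρ u l = mult ρ u (0 : ZMod p) ∨ (∀ m m' : ZMod p, m ≠ 0 → m' ≠ 0 → mult ρ u m = mult ρ u m') := by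
  have hup : u ^ p = 1 := hu ▸ pow_orderOf_eq_one u
  have hu1 : u ≠ 1 := fun h => hp.out.ne_one (by rw [← hu, h, orderOf_one])
  obtain ⟨Q, hQ⟩ := (PElem.of_pow_p (p := p) hup).exists_sylow
  obtain ⟨L, rfl⟩ := DefectOne.exists_local (hu ▸ orderOf_dvd_natCard u) hsq Q
  haveI := L.finite_lam
  letI := Fintype.ofFinite L.Lam
  haveI := L.finite_col
  set χ := irrOf ρ
  have hnd : ¬ p ∣ Cfsg.charDegree (χ : G → ℂ) := by
    have h1 : Cfsg.charDegree (χ : G → ℂ) = d := by
      simp [Cfsg.charDegree, χ, irrOf, Representation.char_one]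
    rw [h1]
    intro h
    have := finrank_pos_of_isIrreducible ρ
    rw [Module.finrank_fin_fun] at this
    exact absurd (Nat.le_of_dvd this h) (not_le.2 hd)
  obtain ⟨q, hq⟩ := L.exists_cint_ne_zero χ hnd
  haveI := Fintype.ofFinite (L.ColOver (L.under q))
  choose lam hlam using exists_lam L hQ hu1
  have hkey : ∀ l (h : l ≠ 0), (mult ρ u (0 : ZMod p) : ℂ) - mult ρ u l =
      ∑ φ : IrrCharacter L.K, (φ : L.K → ℂ) 1 * L.cvec χ (lam l h, φ) := fun l h =>
    mult_zero_sub ρ L hQ hu1 l _ (hlam l h)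
  rcases L.rows (L.under q) χ ⟨⟨q, rfl⟩, hq⟩ with ⟨a, -, hc⟩ | ⟨q₀, a, -, hc⟩
  · refine ⟨0, fun l _ => Or.inr fun m m' hm hm' => ?_⟩
    have hv : ∀ (x : L.Lam) (φ : IrrCharacter L.K),
        L.cvec χ (x, φ) = if L.orb φ = L.under q then (a : ℂ) else 0 := by
      intro x φ
      split_ifs with h
      · rw [← L.cint_col]; exact congrArg _ (hc ⟨L.col (x, φ), h⟩)
      · rw [← L.cint_col, Int.cast_eq_zero]
        by_contra h0
        exact h (L.counting.2.2.2 χ (L.col (x, φ)) q h0 hq)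
    have h1 := hkey m hm
    have h2 := hkey m' hm'
    simp only [hv] at h1 h2
    have h3 : (mult ρ u m : ℂ) = mult ρ u m' := by linear_combination h2 - h1
    exact_mod_cast h3
  · set pr := (Quotient.out q₀.1 : L.Pair)
    obtain ⟨r, hr⟩ : ∃ r : ZMod p, (pr.1.1 ⟨u, hQ⟩ : ℂ) = ZMod.stdAddChar r := by
      haveI : NeZero p := ⟨hp.out.ne_zero⟩
      have hprim := isPrimitiveRoot_std (p := p)
      obtain ⟨i, -, hi⟩ := hprim.eq_pow_of_pow_eq_one (ξ := (pr.1.1 ⟨u, hQ⟩ : ℂ)) (by
        rw [← Units.val_pow_eq_pow_val, ← map_pow,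
          show (⟨u, hQ⟩ : (L.P : Subgroup G)) ^ p = 1 from Subtype.ext hup, map_one, Units.val_one])
      exact ⟨i, by rw [← hi, ← AddChar.map_nsmul_eq_pow, nsmul_one]⟩
    refine ⟨r, fun l hl => Or.inl ?_⟩
    by_cases hl0 : l = 0
    · rw [hl0]
    have hz : ∀ φ : IrrCharacter L.K, L.cvec χ (lam l hl0, φ) = 0 := by
      intro φ
      rw [← L.cint_col, Int.cast_eq_zero]
      by_contra h0
      have hund := L.counting.2.2.2 χ (L.col (lam l hl0, φ)) q h0 hq
      have hcq := hc ⟨L.col (lam l hl0, φ), hund⟩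
      by_cases he : (⟨L.col (lam l hl0, φ), hund⟩ : L.ColOver (L.under q)) = q₀
      swap
      · rw [if_neg he] at hcq; exact h0 hcq
      have hcol : L.col pr = L.col (lam l hl0, φ) :=
        (L.col_out q₀.1).trans (congrArg Subtype.val he).symm
      obtain ⟨n, hn⟩ := L.col_eq_iff.1 hcol
      have hlamn : lam l hl0 = L.lamBy n pr.1 := congrArg Prod.fst hn
      obtain ⟨j, hj⟩ : ∃ j : ZMod p, upow u j = (n : G) * u * (n : G)⁻¹ := by
        have hmem := L.conj_mem_P n.2 hQ
        have hz : Subgroup.zpowers u = (L.P : Subgroup G) :=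
          Subgroup.eq_of_le_of_card_ge (Subgroup.zpowers_le.2 hQ)
            (by rw [Nat.card_zpowers, hu, L.card_P])
        rw [← hz] at hmem
        obtain ⟨i, hi⟩ := (mem_powers_iff_mem_zpowers (x := u)).2 hmem
        exact ⟨i, by rw [upow_natCast u hup]; exact hi⟩
      have hj0 : j ≠ 0 := fun h => by
        rw [h, upow_zero, eq_comm, conj_eq_one_iff] at hj
        exact hu1 hj
      have h1 := hlam l hl0 1
      simp only [upow_one, one_mul] at h1
      rw [hlamn, DefectOne.Local.lamBy_apply] at h1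
      have he2 : L.autP n ⟨u, hQ⟩ = (⟨u, hQ⟩ : (L.P : Subgroup G)) ^ j.val :=
        Subtype.ext (by rw [DefectOne.Local.coe_autP, ← hj]; rfl)
      rw [he2, map_pow, Units.val_pow_eq_pow_val, hr, std_pow] at h1
      exact hl (Units.mk0 j hj0) ⟨(n : G), hj.symm⟩ (ZMod.injective_stdAddChar h1).symm
    have h1 := hkey l hl0
    simp only [hz, mul_zero, Finset.sum_const_zero] at h1
    exact_mod_cast (sub_eq_zero.1 h1).symm

end CfsgLib.DegreeSixteen
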